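import Mathlib

/-!
# Sylow subgroups generated by two commuting elements; the order of `²F₄(q)`

* `sylow_two` : two commuting elements of order `p ^ v_p(B)` with trivial intersection generate a Sylow `p`-subgroup of a
  group of order `B² C`, `p ∤ C`;
* `cyc_of_T` : Sylow subgroups are cyclic if there is a cyclic subgroup of index prime to `p`;
* `dec_one`, `dec_two`, `dec_three`, `dec_four`, `dec_rest` : the decomposition of the order of `²F₄(q)`.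
-/

set_option autoImplicit false
set_option linter.unusedSectionVars false

namespace Cfsg.Agent.H97.KB.TwFAr

open Subgroup

section Grp

variable {G : Type*} [Group G] [Finite G] {p : ℕ} [Fact p.Prime]

theorem closure_pair (x y : G) : closure {x, y} = zpowers x ⊔ zpowers y := by
  rw [zpowers_eq_closure, zpowers_eq_closure, ← Subgroup.closure_union]
  rfl

theorem card_sup {x y : G} (hxy : Commute x y) (hd : zpowers x ⊓ zpowers y = ⊥) :
    Nat.card ↥(zpowers x ⊔ zpowers y) = orderOf x * orderOf y := by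
  have comm : ∀ (a : ↥(zpowers x)) (b : ↥(zpowers y)), Commute ((zpowers x).subtype a) ((zpowers y).subtype b) := by
    rintro ⟨_, i, rfl⟩ ⟨_, j, rfl⟩
    exact (hxy.zpow_left i).zpow_right j
  have h1 := MonoidHom.noncommCoprod_range (zpowers x).subtype (zpowers y).subtype comm
  rw [range_subtype, range_subtype] at h1
  have h2 : Function.Injective (MonoidHom.noncommCoprod (zpowers x).subtype (zpowers y).subtype comm) := by
    rw [MonoidHom.noncommCoprod_injective]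
    refine ⟨subtype_injective _, subtype_injective _, ?_⟩
    rw [range_subtype, range_subtype, disjoint_iff]
    exact hd
  rw [← h1, ← Nat.card_congr (MonoidHom.ofInjective h2).toEquiv, Nat.card_prod, Nat.card_zpowers, Nat.card_zpowers]

theorem fact_sq {B C : ℕ} (hB0 : B ≠ 0) (hC : ¬ p ∣ C) : (B ^ 2 * C).factorization p = 2 * B.factorization p := by
  have hC0 : C ≠ 0 := by rintro rfl; exact hC (dvd_zero p)
  rw [Nat.factorization_mul (pow_ne_zero 2 hB0) hC0, Nat.factorization_pow, Finsupp.add_apply,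
    Nat.factorization_eq_zero_of_not_dvd hC, add_zero]
  rfl

/-- **Two commuting elements generate a Sylow subgroup.** -/
theorem sylow_two {B C : ℕ} (hG : Nat.card G = B ^ 2 * C) (hC : ¬ p ∣ C) (hpB : p ∣ B) (hB0 : B ≠ 0) {x y : G}
    (hx : orderOf x = p ^ B.factorization p) (hy : orderOf y = p ^ B.factorization p) (hxy : Commute x y)
    (hd : zpowers x ⊓ zpowers y = ⊥) :
    ∃ P : Sylow p G, (P : Subgroup G) = closure {x, y} ∧ x ≠ 1 ∧ y ∉ zpowers x := by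
  have hp : p.Prime := Fact.out
  have hv : B.factorization p ≠ 0 := (hp.factorization_pos_of_dvd hB0 hpB).ne'
  have hN1 : p ^ B.factorization p ≠ 1 := (Nat.one_lt_pow hv hp.one_lt).ne'
  have hx1 : x ≠ 1 := by
    rintro rfl
    rw [orderOf_one] at hx
    exact hN1 hx.symm
  have hy1 : y ≠ 1 := by
    rintro rfl
    rw [orderOf_one] at hy
    exact hN1 hy.symm
  refine ⟨Sylow.ofCard (closure {x, y}) ?_, rfl, hx1, fun h => hy1 ?_⟩
  · rw [closure_pair, card_sup hxy hd, hx, hy, hG, fact_sq hB0 hC, ← pow_add, two_mul]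
  · have h1 : y ∈ zpowers x ⊓ zpowers y := ⟨h, mem_zpowers y⟩
    rwa [hd, mem_bot] at h1

/-- **Cyclic Sylow subgroups.** -/
theorem cyc_of_T {T : Subgroup G} (hT : IsCyclic ↥T) (h : ¬ p ∣ T.index) (P : Sylow p G) : IsCyclic ↥(P : Subgroup G) := by
  obtain ⟨Q⟩ := (inferInstance : Nonempty (Sylow p ↥T))
  have hc : Nat.card ↥((Q : Subgroup ↥T).map T.subtype) = p ^ (Nat.card G).factorization p := by
    rw [← Nat.card_congr ((Q : Subgroup ↥T).equivMapOfInjective T.subtype T.subtype_injective).toEquiv,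
      Q.card_eq_multiplicity, ← T.card_mul_index, Nat.factorization_mul Nat.card_pos.ne'
        (by rintro h0; exact h (h0 ▸ dvd_zero p)), Finsupp.add_apply, Nat.factorization_eq_zero_of_not_dvd h, add_zero]
  have hQ : IsCyclic ↥(Q : Subgroup ↥T) := inferInstance
  let S := Sylow.ofCard ((Q : Subgroup ↥T).map T.subtype) hc
  have hS : IsCyclic ↥(S : Subgroup G) :=
    ((Q : Subgroup ↥T).equivMapOfInjective T.subtype T.subtype_injective).isCyclic.1 hQ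
  exact (P.equiv S).symm.isCyclic.1 hS

end Grp

/-! ### the order -/

section Ar

/-- the order of `²F₄(q)` -/
def cG (q : ℕ) : ℕ := q ^ 12 * (q - 1) * (q ^ 3 + 1) * (q ^ 4 - 1) * (q ^ 6 + 1)

variable {q : ℕ} (hq : 1 ≤ q)

include hq

theorem cast_sub1 : ((q - 1 : ℕ) : ℤ) = q - 1 := by push_cast [hq]; ring

theorem cast_a4 : ((q ^ 2 - q + 1 : ℕ) : ℤ) = q ^ 2 - q + 1 := by
  have h : q ≤ q ^ 2 := by nlinarith
  push_cast [h]; ring

theorem cast_a5 : ((q ^ 4 - q ^ 2 + 1 : ℕ) : ℤ) = q ^ 4 - q ^ 2 + 1 := by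
  have h : q ^ 2 ≤ q ^ 4 := Nat.pow_le_pow_right hq (by norm_num)
  push_cast [h]; ring

theorem cG_eq : (cG q : ℤ) = q ^ 12 * ((q - 1) ^ 2 * ((q + 1) ^ 2 * ((q ^ 2 + 1) ^ 2 * ((q ^ 2 - q + 1) *
    (q ^ 4 - q ^ 2 + 1))))) := by
  have h2 : 1 ≤ q ^ 4 := Nat.one_le_pow _ _ hq
  unfold cG
  push_cast [hq, h2]
  ring

theorem cG_nat : cG q = q ^ 12 * ((q - 1) ^ 2 * ((q + 1) ^ 2 * ((q ^ 2 + 1) ^ 2 * ((q ^ 2 - q + 1) *
    (q ^ 4 - q ^ 2 + 1))))) := by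
  apply Nat.cast_injective (R := ℤ)
  rw [cG_eq hq]
  simp only [Nat.cast_mul, Nat.cast_pow, cast_sub1 hq, cast_a4 hq, cast_a5 hq, Nat.cast_add, Nat.cast_one]

end Ar

theorem nd {p : ℕ} {c a b x r : ℤ} (hc : ¬ (p : ℤ) ∣ c) (hr : (p : ℤ) ∣ r) (h : c = a * x + b * r) : ¬ (p : ℤ) ∣ x := by
  intro hx
  apply hc
  rw [h]
  exact dvd_add (hx.mul_left _) (hr.mul_left _)

section Dec

variable {p q : ℕ} [Fact p.Prime] (h11 : 11 ≤ p) (hq : 1 ≤ q)

include h11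

theorem ndc {c : ℕ} (hc0 : c ≠ 0) (hc : c < 11) : ¬ (p : ℤ) ∣ (c : ℤ) := by
  intro h
  have h1 := Nat.le_of_dvd (Nat.pos_of_ne_zero hc0) (Int.natCast_dvd_natCast.1 h)
  omega

theorem nd1 : ¬ (p : ℤ) ∣ 1 := by exact_mod_cast ndc h11 one_ne_zero (by norm_num)
theorem nd2 : ¬ (p : ℤ) ∣ 2 := by exact_mod_cast ndc h11 two_ne_zero (by norm_num)
theorem nd3 : ¬ (p : ℤ) ∣ 3 := by exact_mod_cast ndc h11 three_ne_zero (by norm_num)

omit h11 in
theorem nmul {a b : ℕ} (ha : ¬ p ∣ a) (hb : ¬ p ∣ b) : ¬ p ∣ a * b := fun h =>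
  ((Fact.out : p.Prime).dvd_mul.1 h).elim ha hb

omit h11 in
theorem npow {a n : ℕ} (ha : ¬ p ∣ a) : ¬ p ∣ a ^ n := fun h => ha ((Fact.out : p.Prime).dvd_of_dvd_pow h)

omit h11 [Fact p.Prime] in
theorem nat_of {a : ℕ} {z : ℤ} (ha : (a : ℤ) = z) (hz : ¬ (p : ℤ) ∣ z) : ¬ p ∣ a := fun h => hz (by
  rw [← ha]; exact Int.natCast_dvd_natCast.2 h)

include hq

/-- `p ∣ q - 1` -/
theorem dec_one (h : p ∣ q - 1) : ∃ C, cG q = (q - 1) ^ 2 * C ∧ ¬ p ∣ C := by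
  have hr : (p : ℤ) ∣ q - 1 := by rw [← cast_sub1 hq]; exact Int.natCast_dvd_natCast.2 h
  refine ⟨q ^ 12 * ((q + 1) ^ 2 * ((q ^ 2 + 1) ^ 2 * ((q ^ 2 - q + 1) * (q ^ 4 - q ^ 2 + 1)))), ?_, ?_⟩
  · rw [cG_nat hq]; ring
  · refine nmul (npow ?_) (nmul (npow ?_) (nmul (npow ?_) (nmul ?_ ?_)))
    · exact nat_of rfl (nd (a := 1) (b := -1) (nd1 h11) hr (by ring))
    · exact nat_of (z := q + 1) (by push_cast; rfl) (nd (a := 1) (b := -1) (nd2 h11) hr (by ring))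
    · exact nat_of (z := q ^ 2 + 1) (by push_cast; rfl) (nd (a := 1) (b := -(q + 1)) (nd2 h11) hr (by ring))
    · exact nat_of (cast_a4 hq) (nd (a := 1) (b := -q) (nd1 h11) hr (by ring))
    · exact nat_of (cast_a5 hq) (nd (a := 1) (b := -(q ^ 2 * (q + 1))) (nd1 h11) hr (by ring))

/-- `p ∣ q + 1` -/
theorem dec_two (h : p ∣ q + 1) : ∃ C, cG q = (q + 1) ^ 2 * C ∧ ¬ p ∣ C := by
  have hr : (p : ℤ) ∣ q + 1 := by exact_mod_cast Int.natCast_dvd_natCast.2 h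
  refine ⟨q ^ 12 * ((q - 1) ^ 2 * ((q ^ 2 + 1) ^ 2 * ((q ^ 2 - q + 1) * (q ^ 4 - q ^ 2 + 1)))), ?_, ?_⟩
  · rw [cG_nat hq]; ring
  · refine nmul (npow ?_) (nmul (npow ?_) (nmul (npow ?_) (nmul ?_ ?_)))
    · exact nat_of rfl (nd (a := -1) (b := 1) (nd1 h11) hr (by ring))
    · exact nat_of (cast_sub1 hq) (nd (a := -1) (b := 1) (nd2 h11) hr (by ring))
    · exact nat_of (z := q ^ 2 + 1) (by push_cast; rfl) (nd (a := 1) (b := -(q - 1)) (nd2 h11) hr (by ring))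
    · exact nat_of (cast_a4 hq) (nd (a := 1) (b := -(q - 2)) (nd3 h11) hr (by ring))
    · exact nat_of (cast_a5 hq) (nd (a := 1) (b := -(q ^ 2 * (q - 1))) (nd1 h11) hr (by ring))

/-- `p ∣ B`, `q ^ 2 + 1 = B B'`, `B' - B = ± 4 u`, `q = 2 u²` -/
theorem dec_three {B B' u : ℕ} (hu : q = 2 * u ^ 2) {e : ℤ} (he : e ^ 2 = 1) (hB : (B : ℤ) = 2 * u ^ 2 + 2 * e * u + 1)
    (hB' : (B' : ℤ) = 2 * u ^ 2 - 2 * e * u + 1) (h : p ∣ B) : ∃ C, cG q = B ^ 2 * C ∧ ¬ p ∣ C := by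
  have hr : (p : ℤ) ∣ B := Int.natCast_dvd_natCast.2 h
  rw [hB] at hr
  have hqu : (q : ℤ) = 2 * u ^ 2 := by rw [hu]; push_cast; ring
  have hBB : q ^ 2 + 1 = B * B' := by
    apply Nat.cast_injective (R := ℤ)
    push_cast
    rw [hB, hB', hqu]
    linear_combination 4 * (u : ℤ) ^ 2 * he
  have hr2 : (p : ℤ) ∣ q ^ 2 + 1 := by
    have h1 : ((q ^ 2 + 1 : ℕ) : ℤ) = B * B' := by rw [hBB]; push_cast; ring
    push_cast at h1
    rw [h1, hB]
    exact hr.mul_right _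
  refine ⟨q ^ 12 * ((q - 1) ^ 2 * ((q + 1) ^ 2 * (B' ^ 2 * ((q ^ 2 - q + 1) * (q ^ 4 - q ^ 2 + 1))))), ?_, ?_⟩
  · rw [cG_nat hq, hBB]; ring
  · refine nmul (npow ?_) (nmul (npow ?_) (nmul (npow ?_) (nmul (npow ?_) (nmul ?_ ?_))))
    · exact nat_of rfl (nd (a := -q) (b := 1) (nd1 h11) hr2 (by ring))
    · exact nat_of (cast_sub1 hq) (nd (a := -(q + 1)) (b := 1) (nd2 h11) hr2 (by ring))
    · exact nat_of (z := q + 1) (by push_cast; rfl) (nd (a := -(q - 1)) (b := 1) (nd2 h11) hr2 (by ring))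
    · refine nat_of hB' (nd (a := 1 + e * u) (b := 1 - e * u) (nd2 h11) hr ?_)
      linear_combination (4 * (u : ℤ) ^ 2) * he
    · exact nat_of (cast_a4 hq) (nd (a := q) (b := 1 - q) (nd1 h11) hr2 (by ring))
    · exact nat_of (cast_a5 hq) (nd (a := 1) (b := -(q ^ 2 - 2)) (nd3 h11) hr2 (by ring))

/-- `p ∣ q ^ 2 - q + 1` -/
theorem dec_four (h : p ∣ q ^ 2 - q + 1) (h1 : ¬ p ∣ q - 1) (h2 : ¬ p ∣ q + 1) (h3 : ¬ p ∣ q ^ 2 + 1) :
    ∃ C, cG q = (q ^ 2 - q + 1) * C ∧ ¬ p ∣ C := by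
  have hr : (p : ℤ) ∣ q ^ 2 - q + 1 := by rw [← cast_a4 hq]; exact Int.natCast_dvd_natCast.2 h
  have h1' : ¬ (p : ℤ) ∣ -2 * (q - 1) := by
    have h4 : ((2 * (q - 1) : ℕ) : ℤ) = 2 * (q - 1) := by rw [Nat.cast_mul, cast_sub1 hq]; rfl
    have h5 : -2 * ((q : ℤ) - 1) = -((2 * (q - 1) : ℕ) : ℤ) := by rw [h4]; ring
    rw [h5, dvd_neg, Int.natCast_dvd_natCast]
    refine nmul ?_ h1
    exact nat_of (z := 2) rfl (nd2 h11)
  refine ⟨q ^ 12 * ((q - 1) ^ 2 * ((q + 1) ^ 2 * ((q ^ 2 + 1) ^ 2 * (q ^ 4 - q ^ 2 + 1)))), ?_, ?_⟩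
  · rw [cG_nat hq]; ring
  · refine nmul (npow ?_) (nmul (npow h1) (nmul (npow h2) (nmul (npow h3) ?_)))
    · exact nat_of rfl (nd (a := 1 - q) (b := 1) (nd1 h11) hr (by ring))
    · exact nat_of (cast_a5 hq) (nd (a := 1) (b := -(q ^ 2 + q - 1)) h1' hr (by ring))

/-- `p ∣ B`, `q ^ 4 - q ^ 2 + 1 = B B'` -/
theorem dec_five {B B' u : ℕ} (hu : q = 2 * u ^ 2) {e : ℤ} (he : e ^ 2 = 1)
    (hB : (B : ℤ) = 1 + 2 * e * u + 2 * u ^ 2 + 4 * e * u ^ 3 + 4 * u ^ 4)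
    (hB' : (B' : ℤ) = 1 - 2 * e * u + 2 * u ^ 2 - 4 * e * u ^ 3 + 4 * u ^ 4) (h : p ∣ B)
    (h1 : ¬ p ∣ q - 1) (h2 : ¬ p ∣ q + 1) (h3 : ¬ p ∣ q ^ 2 + 1) :
    ∃ C, cG q = B * C ∧ ¬ p ∣ C := by
  have hr : (p : ℤ) ∣ B := Int.natCast_dvd_natCast.2 h
  have hqu : (q : ℤ) = 2 * u ^ 2 := by rw [hu]; push_cast; ring
  have hBB : q ^ 4 - q ^ 2 + 1 = B * B' := by
    apply Nat.cast_injective (R := ℤ)
    rw [cast_a5 hq, Nat.cast_mul, hB, hB', hqu]
    linear_combination (4 * (u : ℤ) ^ 2 + 16 * (u : ℤ) ^ 4 + 16 * (u : ℤ) ^ 6) * he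
  have hr2 : (p : ℤ) ∣ q ^ 4 - q ^ 2 + 1 := by
    rw [← cast_a5 hq, hBB]
    push_cast
    exact hr.mul_right _
  rw [hB] at hr
  have hq0 : ¬ (p : ℤ) ∣ q := nd (a := -(q ^ 3 - q)) (b := 1) (nd1 h11) hr2 (by ring)
  have hu0 : ¬ (p : ℤ) ∣ u := by
    intro h4
    apply hq0
    rw [hqu]
    exact (dvd_pow h4 two_ne_zero).mul_left _
  have hpi : Prime (p : ℤ) := Nat.prime_iff_prime_int.1 Fact.out
  refine ⟨q ^ 12 * ((q - 1) ^ 2 * ((q + 1) ^ 2 * ((q ^ 2 + 1) ^ 2 * ((q ^ 2 - q + 1) * B')))), ?_, ?_⟩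
  · rw [cG_nat hq, hBB]; ring
  · refine nmul (npow ?_) (nmul (npow h1) (nmul (npow h2) (nmul (npow h3) (nmul ?_ ?_))))
    · exact nat_of rfl hq0
    · -- `a5 = a4 (q² + q - 1) - 2 (q - 1)`
      intro h4
      obtain ⟨C, hC, hC'⟩ := dec_four h11 hq h4 h1 h2 h3
      rw [cG_nat hq] at hC
      have h5 : (q ^ 2 - q + 1) * (q ^ 12 * ((q - 1) ^ 2 * ((q + 1) ^ 2 * ((q ^ 2 + 1) ^ 2 * (q ^ 4 - q ^ 2 + 1))))) =
          (q ^ 2 - q + 1) * C := by rw [← hC]; ring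
      have h6 := Nat.eq_of_mul_eq_mul_left (Nat.succ_pos _) h5
      apply hC'
      rw [← h6]
      exact ((((Int.natCast_dvd_natCast.1 (by rw [cast_a5 hq]; exact hr2)).mul_left _).mul_left _).mul_left _).mul_left _
    · intro h4
      have h5 : (p : ℤ) ∣ 1 - 2 * e * u + 2 * u ^ 2 - 4 * e * u ^ 3 + 4 * u ^ 4 := by
        rw [← hB']; exact Int.natCast_dvd_natCast.2 h4
      have h6 := dvd_sub hr h5
      have h7 : (1 + 2 * e * u + 2 * u ^ 2 + 4 * e * u ^ 3 + 4 * u ^ 4 -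
          (1 - 2 * e * u + 2 * u ^ 2 - 4 * e * u ^ 3 + 4 * u ^ 4) : ℤ) = e * (2 * (2 * (u * (q + 1)))) := by
        rw [hqu]; ring
      rw [h7] at h6
      rcases hpi.dvd_or_dvd h6 with h8 | h8
      · have h9 : (p : ℤ) ∣ e ^ 2 := h8.trans (dvd_pow_self _ two_ne_zero)
        rw [he] at h9
        exact nd1 h11 h9
      · rcases hpi.dvd_or_dvd h8 with h9 | h9
        · exact nd2 h11 h9
        · rcases hpi.dvd_or_dvd h9 with h9 | h9
          · exact nd2 h11 h9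
          · rcases hpi.dvd_or_dvd h9 with h9 | h9
            · exact hu0 h9
            · exact h2 (Int.natCast_dvd_natCast.1 (by push_cast; exact h9))

end Dec

end Cfsg.Agent.H97.KB.TwFAr
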