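import Cfsg.Agent.H97.KB.TwFData
import Cfsg.Agent.H97.KB.TwFAr
import Cfsg.Agent.H129.CycCardF
import Cfsg.Agent.S1068

/-!
# Noncyclic Sylow `p`-subgroups of `²F₄(q)`, `p ≥ 11`

`exists_dat` : the Sylow `p`-subgroup is generated by two commuting elements `x`, `y`; there is an element `c` centralizing
`x` with `c y c⁻¹ = y ^ j`, such that `(p - 1) / e * ord(j mod p) + 1 ≥ p`, where `e` is an exponent of the group of `i` with `x`
conjugate to `x ^ i`.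
-/

set_option autoImplicit false
set_option linter.unusedSectionVars false

namespace Cfsg.Agent.H97.KB.TwFDat

open Cfsg Cfsg.Lie Subgroup
open Cfsg.Agent.ChevalleyStructure.CoxeterGeom
open Cfsg.Agent.H97.KB.TwFTor Cfsg.Agent.H97.KB.TwFFus Cfsg.Agent.H97.KB.TwFData Cfsg.Agent.H97.KB.TwFAr

universe u

/-- the data of a Sylow subgroup of rank 2 -/
def Dat (p : ℕ) (G : Type u) [Group G] : Prop :=
  ∃ (P : Sylow p G) (x y c : G) (e j : ℕ), (P : Subgroup G) = closure {x, y} ∧ Commute x y ∧ x ≠ 1 ∧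
    y ∉ zpowers x ∧ zpowers x ⊓ zpowers y = ⊥ ∧
    (∀ (g : G) (i : ℕ), g * x * g⁻¹ = x ^ i → (i : ZMod p) ^ e = 1) ∧ Commute c x ∧ c * y * c⁻¹ = y ^ j ∧
    p ≤ (p - 1) / e * orderOf (j : ZMod p) + 1

variable {p : ℕ} [Fact p.Prime]

theorem Dat.congr {G H : Type*} [Group G] [Group H] [Finite H] (f : G ≃* H) (D : Dat p G) : Dat p H := by
  obtain ⟨P, x, y, c, e, j, h1, h2, h3, h4, h5, h6, h7, h8, h9⟩ := D
  have hz : ∀ a : G, zpowers (f a) = (zpowers a).map f.toMonoidHom := fun a => by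
    rw [MonoidHom.map_zpowers]; rfl
  have hfin : Finite G := Finite.of_equiv _ f.symm.toEquiv
  have hs : Function.Surjective f.toMonoidHom := f.surjective
  refine ⟨P.mapSurjective hs, f x, f y, f c, e, j, ?_, h2.map f, ?_, ?_, ?_, ?_, h7.map f, ?_, h9⟩
  · rw [Sylow.coe_mapSurjective, h1, MonoidHom.map_closure, Set.image_pair]
    rfl
  · intro h; exact h3 (f.injective (h.trans f.map_one.symm))
  · rw [hz]
    rintro ⟨a, ha, e1⟩
    exact h4 (f.injective e1 ▸ ha)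
  · rw [hz, hz, ← Subgroup.map_inf _ _ _ f.injective, h5, Subgroup.map_bot]
  · intro g i hg
    refine h6 (f.symm g) i (f.injective ?_)
    rw [map_mul, map_mul, map_inv, map_pow, f.apply_symm_apply, hg]
  · rw [← map_mul, ← map_inv, ← map_mul, h8, map_pow]

theorem order_neg {N : ℕ} (h11 : 11 ≤ p) (hpN : p ∣ N) (hN0 : N ≠ 0) : orderOf ((N - 1 : ℕ) : ZMod p) = 2 := by
  have h1 : ((N - 1 : ℕ) : ZMod p) = -1 := by
    have h2 : ((N - 1 : ℕ) : ZMod p) + 1 = (N : ZMod p) := by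
      rw [← Nat.cast_add_one, Nat.sub_add_cancel (Nat.pos_of_ne_zero hN0)]
    rw [(ZMod.natCast_eq_zero_iff N p).2 hpN] at h2
    exact eq_neg_of_add_eq_zero_left h2
  rw [h1, orderOf_neg_one, ringChar.eq (ZMod p) p, if_neg (by omega)]

theorem order_four {q : ℕ} (h11 : 11 ≤ p) (h : p ∣ q ^ 2 + 1) : orderOf (q : ZMod p) = 4 := by
  have h1 : (q : ZMod p) ^ 2 = -1 := by
    have h2 := (ZMod.natCast_eq_zero_iff (q ^ 2 + 1) p).2 h
    push_cast at h2
    exact eq_neg_of_add_eq_zero_left h2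
  have h3 : (q : ZMod p) ^ 2 ^ 2 = 1 := by
    have e : (q : ZMod p) ^ 2 ^ 2 = ((q : ZMod p) ^ 2) ^ 2 := by ring
    rw [e, h1]; ring
  have h4 : ¬ (q : ZMod p) ^ 2 ^ 1 = 1 := by
    rw [pow_one, h1]
    intro h5
    have h6 : (2 : ZMod p) = 0 := by linear_combination -h5
    have h7 : p ∣ 2 := (ZMod.natCast_eq_zero_iff 2 p).1 (by exact_mod_cast h6)
    have := Nat.le_of_dvd (by norm_num) h7
    omega
  exact orderOf_eq_prime_pow h4 h3

theorem le_two (h11 : 11 ≤ p) {a : ℕ} (ha : a = 2) : p ≤ (p - 1) / 2 * a + 1 := by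
  have h1 : p % 2 = 1 := (Nat.Prime.eq_two_or_odd (Fact.out : p.Prime)).resolve_left (by omega)
  subst ha
  omega

theorem le_four (h11 : 11 ≤ p) {q : ℕ} (h : p ∣ q ^ 2 + 1) : p ≤ (p - 1) / 4 * orderOf (q : ZMod p) + 1 := by
  have h0 : (q : ZMod p) ≠ 0 := by
    intro h0
    have h2 := (ZMod.natCast_eq_zero_iff (q ^ 2 + 1) p).2 h
    push_cast at h2
    rw [h0] at h2
    simp at h2
  have h1 := ZMod.orderOf_dvd_card_sub_one h0
  rw [order_four h11 h] at h1 ⊢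
  obtain ⟨k, hk⟩ := h1
  omega

/-- the common part -/
theorem dat_of {K : Type u} [Field K] [Fintype K] {m : ℕ} (hK : Fintype.card K = 2 ^ (2 * m + 1)) {B j e : ℕ}
    {L : Fin 4 → ℤ} (hpB : p ∣ B) (hB0 : B ≠ 0) (hC : ∃ C, cG (2 ^ (2 * m + 1)) = B ^ 2 * C ∧ ¬ p ∣ C)
    (hx : Ex K m (p ^ B.factorization p) j L)
    (hf : ∀ (i : ℕ) (w : CoxeterMatrix.F₄.Group), (∀ a, ((p ^ B.factorization p : ℕ) : ℤ) ∣ i * H129.SuzT.La L (rep
      CoxeterMatrix.F₄.toCoxeterSystem H493.F4Tor.hp.isCartan w a) - H129.SuzT.La L a) → (i : ZMod p) ^ e = 1)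
    (hj : p ≤ (p - 1) / e * orderOf (j : ZMod p) + 1) : Dat p ↥(twistedF4 K (2 ^ m)) := by
  have hfin : Finite ↥(twistedF4 K (2 ^ m)) := inferInstance
  obtain ⟨C, hC, hC'⟩ := hC
  obtain ⟨x, y, c, h1, h2, h3, h4, h5, h6, h7⟩ := hx
  have hG : Nat.card ↥(twistedF4 K (2 ^ m)) = B ^ 2 * C := by rw [Cfsg.Agent.S1068.result hK]; exact hC
  obtain ⟨P, h8, h9, h10⟩ := sylow_two hG hC' hpB hB0 h1 h2 h3 h4
  refine ⟨P, x, y, c, e, j, h8, h3, h9, h10, h4, fun g i hg => ?_, h5, h6, hj⟩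
  obtain ⟨w, hw⟩ := h7 g i hg
  exact hf i w hw

theorem dvd_N {B : ℕ} (hpB : p ∣ B) (hB0 : B ≠ 0) : p ∣ p ^ B.factorization p :=
  dvd_pow_self p ((Fact.out : p.Prime).factorization_pos_of_dvd hB0 hpB).ne'

theorem N_dvd {B : ℕ} : p ^ B.factorization p ∣ B := Nat.ordProj_dvd B p

theorem two_N (h11 : 11 ≤ p) {B : ℕ} : ¬ 2 ∣ p ^ B.factorization p := fun h => by
  have h1 := (Nat.prime_dvd_prime_iff_eq Nat.prime_two Fact.out).1 (Nat.prime_two.dvd_of_dvd_pow h)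
  omega

/-- the cyclic cases -/
theorem cyc_of {K : Type u} [Field K] [Fintype K] {m : ℕ} (hK : Fintype.card K = 2 ^ (2 * m + 1)) {N : ℕ}
    (hC : ∃ C, cG (2 ^ (2 * m + 1)) = N * C ∧ ¬ p ∣ C) (hN0 : N ≠ 0)
    {T : Subgroup ↥(twistedF4 K (2 ^ m))} (hT : IsCyclic ↥T) (hTN : Nat.card ↥T = N)
    (P : Sylow p ↥(twistedF4 K (2 ^ m))) : IsCyclic ↥(P : Subgroup ↥(twistedF4 K (2 ^ m))) := by
  have hfin : Finite ↥(twistedF4 K (2 ^ m)) := inferInstance
  obtain ⟨C, hC, hC'⟩ := hC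
  refine cyc_of_T hT ?_ P
  have hG : Nat.card ↥(twistedF4 K (2 ^ m)) = N * C := by rw [Cfsg.Agent.S1068.result hK]; exact hC
  have h1 := T.card_mul_index
  rw [hG, hTN] at h1
  rwa [Nat.eq_of_mul_eq_mul_left (Nat.pos_of_ne_zero hN0) h1]

/-- **The Sylow subgroups of `²F₄(q)`.** -/
theorem exists_dat (h11 : 11 ≤ p) {K : Type u} [Field K] [Fintype K] {m : ℕ} (hK : Fintype.card K = 2 ^ (2 * m + 1))
    (hP : ∀ P : Sylow p ↥(twistedF4 K (2 ^ m)), ¬ IsCyclic ↥(P : Subgroup ↥(twistedF4 K (2 ^ m)))) :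
    Dat p ↥(twistedF4 K (2 ^ m)) := by
  have hp : p.Prime := Fact.out
  have hfin : Finite ↥(twistedF4 K (2 ^ m)) := inferInstance
  obtain ⟨P0⟩ := (inferInstance : Nonempty (Sylow p ↥(twistedF4 K (2 ^ m))))
  obtain ⟨q, hq⟩ : ∃ q, q = 2 ^ (2 * m + 1) := ⟨_, rfl⟩
  obtain ⟨u, hu⟩ : ∃ u, u = 2 ^ m := ⟨_, rfl⟩
  have hqu : q = 2 * u ^ 2 := by rw [hq, hu]; ring
  have hu1 : 1 ≤ u := by rw [hu]; exact Nat.one_le_two_pow
  have hq1 : 1 ≤ q := by rw [hq]; exact Nat.one_le_two_pow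
  have hq2 : 2 ≤ q := by rw [hqu]; nlinarith
  have hqz : (q : ℤ) = 2 * (2 ^ m) ^ 2 := by rw [hqu, hu]; push_cast; ring
  by_cases c1 : p ∣ q - 1
  · have hB0 : q - 1 ≠ 0 := by omega
    have hpN := dvd_N c1 hB0
    have hN0 : p ^ (q - 1).factorization p ≠ 0 := pow_ne_zero _ hp.ne_zero
    refine dat_of (e := 2) (j := p ^ (q - 1).factorization p - 1) hK c1 hB0 (by rw [← hq]; exact dec_one h11 hq1 c1)
      (ex_one hK (two_N h11) ?_ ?_) (fun i w hw => fus_one h11 hpN ?_ hw) (le_two h11 (order_neg h11 hpN hN0))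
    · rw [← hqz, ← cast_sub1 hq1]
      exact Int.natCast_dvd_natCast.2 N_dvd
    · rw [← Nat.cast_add_one, Nat.sub_add_cancel (Nat.pos_of_ne_zero hN0)]
    · rw [← hqz, ← cast_sub1 hq1]
      exact Int.natCast_dvd_natCast.2 c1
  by_cases c2 : p ∣ q + 1
  · have hB0 : q + 1 ≠ 0 := by omega
    have hpN := dvd_N c2 hB0
    have hN0 : p ^ (q + 1).factorization p ≠ 0 := pow_ne_zero _ hp.ne_zero
    have hz : ((q + 1 : ℕ) : ℤ) = 2 * (2 ^ m) ^ 2 + 1 := by rw [← hqz]; push_cast; rfl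
    refine dat_of (e := 2) (j := p ^ (q + 1).factorization p - 1) hK c2 hB0 (by rw [← hq]; exact dec_two h11 hq1 c2)
      (ex_two hK (two_N h11) ?_ ?_) (fun i w hw => fus_two h11 hpN ?_ hw) (le_two h11 (order_neg h11 hpN hN0))
    · rw [← hz]
      exact Int.natCast_dvd_natCast.2 N_dvd
    · rw [← Nat.cast_add_one, Nat.sub_add_cancel (Nat.pos_of_ne_zero hN0)]
    · rw [← hz]
      exact Int.natCast_dvd_natCast.2 c2
  obtain ⟨B, hB⟩ : ∃ B : ℕ, (B : ℤ) = 2 * u ^ 2 - 2 * u + 1 := by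
    refine ⟨2 * (u * (u - 1)) + 1, ?_⟩
    push_cast [hu1]; ring
  obtain ⟨B', hB'⟩ : ∃ B' : ℕ, (B' : ℤ) = 2 * u ^ 2 + 2 * u + 1 := ⟨2 * u ^ 2 + 2 * u + 1, by push_cast; ring⟩
  have hBB : q ^ 2 + 1 = B' * B := by
    apply Nat.cast_injective (R := ℤ)
    push_cast
    rw [hB, hB', hqz, hu]
    push_cast
    ring
  have huz : (u : ℤ) = 2 ^ m := by rw [hu]; push_cast; rfl
  by_cases c3 : p ∣ q ^ 2 + 1
  · have hj : ((q : ℕ) : ℤ) = 2 * (2 ^ m) ^ 2 := hqz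
    rw [hBB] at c3
    rcases hp.dvd_mul.1 c3 with c | c
    · have hB0 : B' ≠ 0 := by
        rintro rfl
        push_cast at hB'
        nlinarith
      have hpN := dvd_N c hB0
      refine dat_of (e := 4) (j := q) hK c hB0 (by
          rw [← hq]
          exact dec_three h11 hq1 hqu (e := 1) (by norm_num) (by rw [hB']; ring) (by rw [hB]; ring) c)
        (ex_four hK (two_N h11) ?_ hj) (fun i w hw => fus_three h11 hpN ?_ hw) (le_four h11 (by rw [hBB]; exact c3))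
      · rw [← huz, ← hB']
        exact Int.natCast_dvd_natCast.2 N_dvd
      · have e1 : 2 * (-2 ^ m : ℤ) ^ 2 - 2 * (-2 ^ m) + 1 = 2 * u ^ 2 + 2 * u + 1 := by rw [huz]; ring
        rw [e1, ← hB']
        exact Int.natCast_dvd_natCast.2 c
    · have hB0 : B ≠ 0 := by
        rintro rfl
        push_cast at hB
        nlinarith
      have hpN := dvd_N c hB0
      refine dat_of (e := 4) (j := q) hK c hB0 (by
          rw [← hq]
          exact dec_three h11 hq1 hqu (e := -1) (by norm_num) (by rw [hB]; ring) (by rw [hB']; ring) c)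
        (ex_three hK (two_N h11) ?_ hj) (fun i w hw => fus_three h11 hpN ?_ hw) (le_four h11 (by rw [hBB]; exact c3))
      · rw [← huz, ← hB]
        exact Int.natCast_dvd_natCast.2 N_dvd
      · rw [← huz, ← hB]
        exact Int.natCast_dvd_natCast.2 c
  exfalso
  by_cases c4 : p ∣ q ^ 2 - q + 1
  · have hC := dec_four h11 hq1 c4 c1 c2 c3
    rw [hq] at hC
    have hNz : ((q ^ 2 - q + 1 : ℕ) : ℤ) = 1 - 2 * (2 ^ m) ^ 2 + 4 * (2 ^ m) ^ 4 := by
      rw [cast_a4 hq1, hqz]; ring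
    obtain ⟨T, h1, h2, h3, -⟩ := Cfsg.Agent.H129.CycCard.card_tF4_6 hK hNz hp (by
      rw [← hNz]; exact Int.natCast_dvd_natCast.2 c4) (by omega)
    rw [one_mul] at h3
    refine hP P0 (cyc_of hK (N := q ^ 2 - q + 1) (by rw [hq]; exact hC) (Nat.succ_ne_zero _) h1
      (Nat.dvd_antisymm h2 h3) P0)
  by_cases c5 : p ∣ q ^ 4 - q ^ 2 + 1
  · obtain ⟨D, hD⟩ : ∃ D : ℕ, (D : ℤ) = 1 + 2 * u + 2 * u ^ 2 + 4 * u ^ 3 + 4 * u ^ 4 :=
      ⟨1 + 2 * u + 2 * u ^ 2 + 4 * u ^ 3 + 4 * u ^ 4, by push_cast; ring⟩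
    obtain ⟨D', hD'⟩ : ∃ D' : ℕ, (D' : ℤ) = 1 - 2 * u + 2 * u ^ 2 - 4 * u ^ 3 + 4 * u ^ 4 := by
      refine ⟨1 + 2 * (u * (u - 1)) + 4 * (u ^ 3 * (u - 1)), ?_⟩
      push_cast [hu1]; ring
    have hDD : q ^ 4 - q ^ 2 + 1 = D * D' := by
      apply Nat.cast_injective (R := ℤ)
      rw [cast_a5 hq1, Nat.cast_mul, hD, hD', hqz, huz]
      ring
    rw [hDD] at c5
    rcases hp.dvd_mul.1 c5 with c | c
    · have hC := dec_five h11 hq1 hqu (e := 1) (B := D) (B' := D') (by norm_num) (by rw [hD]; ring) (by rw [hD']; ring)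
        c c1 c2 c3
      obtain ⟨T, h1, h2, -⟩ := Cfsg.Agent.H129.CycCard.exact_tF4_plus hK (N := D) (by rw [hD, huz])
      exact hP P0 (cyc_of hK (by rw [← hq]; exact hC) (by rintro rfl; push_cast at hD; nlinarith) h1 h2 P0)
    · have hC := dec_five h11 hq1 hqu (e := -1) (B := D') (B' := D) (by norm_num) (by rw [hD']; ring) (by rw [hD]; ring)
        c c1 c2 c3
      obtain ⟨T, h1, h2, -⟩ := Cfsg.Agent.H129.CycCard.exact_tF4_minus hK (N := D') (by rw [hD', huz])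
      refine hP P0 (cyc_of hK (by rw [← hq]; exact hC) ?_ h1 h2 P0)
      rintro rfl
      have h3 : ¬ p ∣ 0 := by
        intro _
        have h4 : (0 : ℤ) = 1 + 2 * (u * (u - 1)) + 4 * (u ^ 3 * (u - 1)) := by
          have h5 := hD'
          push_cast at h5
          rw [h5]; ring
        have h8 : (0 : ℤ) ≤ (u : ℤ) - 1 := by
          have h9 : (1 : ℤ) ≤ u := by exact_mod_cast hu1
          linarith
        have h6 : (0 : ℤ) ≤ u * (u - 1) := mul_nonneg (by positivity) h8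
        have h7 : (0 : ℤ) ≤ u ^ 3 * (u - 1) := mul_nonneg (by positivity) h8
        linarith
      exact h3 (dvd_zero p)
  -- `p` does not divide the order
  have h2 : ¬ p ∣ Nat.card ↥(twistedF4 K (2 ^ m)) := by
    rw [Cfsg.Agent.S1068.result hK]
    show ¬ p ∣ cG (2 ^ (2 * m + 1))
    rw [← hq, cG_nat hq1]
    refine nmul (npow ?_) (nmul (npow c1) (nmul (npow c2) (nmul (npow c3) (nmul c4 c5))))
    rw [hq]
    intro h3
    have h4 := (Nat.prime_dvd_prime_iff_eq hp Nat.prime_two).1 (hp.dvd_of_dvd_pow h3)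
    omega
  refine hP P0 (cyc_of_T (T := ⊥) inferInstance ?_ P0)
  rwa [Subgroup.index_bot]

end Cfsg.Agent.H97.KB.TwFDat
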