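import Cfsg.Agent.H129.SuzT

/-!
# Power sums over the roots of `F₄`

A functional `L` modulo `p` which is multiplied by `i` by an element of the Weyl group: `i ^ n = 1` if the sum of the
`n`-th powers of the values of `L` on the roots is not zero, `n` even (`pow_eq_one`).  The functionals of the tori of
`²F₄(q)`: `sum_lin`, `sum_six`, `sum_eight`, `sum_eight'`, `sum_twelve`.
-/

set_option autoImplicit false
set_option linter.unusedSectionVars false

namespace Cfsg.Agent.H97.KB.TwFFus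

open CoxeterSystem Cfsg Cfsg.Lie Cfsg.Lie.ChevalleyDatum
open Cfsg.Agent.ChevalleyStructure Cfsg.Agent.ChevalleyStructure.Elts Cfsg.Agent.ChevalleyStructure.CoxeterGeom
  Cfsg.Agent.ChevalleyStructure.CoxeterGeomTypes Cfsg.Agent.ChevalleyStructure.NPerm
open Cfsg.Agent.Tits.Roots Cfsg.Agent.Tits.Core Cfsg.Agent.Nodes Cfsg.Agent.Nodes.Reps Cfsg.Agent.Nodes.BNOf
  Cfsg.Agent.Nodes.RGDChev Cfsg.Agent.Nodes.Bruhat Cfsg.Agent.Nodes.SubComb Cfsg.Agent.Nodes.Coroot
open Cfsg.Agent.H493.F4End Cfsg.Agent.H493.F4Tor Cfsg.Agent.H129 Cfsg.Agent.H129.SuzT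

/-- the roots -/
def RR : Finset (Fin 4 → ℤ) := Finset.univ.image RT ∪ Finset.univ.image (fun s => - RT s)

theorem RT_root : ∀ s : Fin 24, ∃ r : Fin 48, ∀ i, vec chevF4 4 r i = RT s i := by
  decide +kernel

theorem RT_inj : ∀ s t : Fin 24, (∀ i, RT s i = RT t i) → s = t := by
  decide +kernel

theorem RT_neg : ∀ s t : Fin 24, ¬ ∀ i, RT s i = - RT t i := by
  decide +kernel

theorem isRoot_RT (s : Fin 24) : IsRoot CoxeterMatrix.F₄.toCoxeterSystem hp.isCartan (RT s) := by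
  obtain ⟨r, hr⟩ := RT_root s
  exact (isRoot_iff hp CoxeterMatrix.F₄.toCoxeterSystem (RT s)).2 ⟨r, r.2, funext hr⟩

theorem mem_RR {a : Fin 4 → ℤ} : a ∈ RR ↔ IsRoot CoxeterMatrix.F₄.toCoxeterSystem hp.isCartan a := by
  unfold RR
  rw [Finset.mem_union, Finset.mem_image, Finset.mem_image]
  constructor
  · rintro (⟨s, -, rfl⟩ | ⟨s, -, rfl⟩)
    · exact isRoot_RT s
    · exact (isRoot_RT s).neg
  · intro ha
    obtain ⟨n, hn, rfl⟩ := (isRoot_iff hp CoxeterMatrix.F₄.toCoxeterSystem a).1 ha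
    obtain ⟨s, hs | hs⟩ := RT_tab ⟨n, hn⟩
    · exact Or.inl ⟨s, Finset.mem_univ _, (funext hs).symm⟩
    · exact Or.inr ⟨s, Finset.mem_univ _, (funext hs).symm⟩

variable {R : Type*} [CommRing R]

theorem sum_RR {F : (Fin 4 → ℤ) → R} (hF : ∀ a, F (-a) = F a) : ∑ a ∈ RR, F a = 2 * ∑ s, F (RT s) := by
  unfold RR
  rw [Finset.sum_union, Finset.sum_image, Finset.sum_image]
  · simp only [hF]
    ring
  · intro s _ t _ h
    exact RT_inj s t fun i => congrFun (neg_injective h) i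
  · intro s _ t _ h
    exact RT_inj s t fun i => congrFun h i
  · rw [Finset.disjoint_left]
    intro a h1 h2
    obtain ⟨s, -, rfl⟩ := Finset.mem_image.1 h1
    obtain ⟨t, -, ht⟩ := Finset.mem_image.1 h2
    exact RT_neg s t fun i => (congrFun ht i).symm

theorem sum_act (w : CoxeterMatrix.F₄.Group) (F : (Fin 4 → ℤ) → R) :
    ∑ a ∈ RR, F (rep CoxeterMatrix.F₄.toCoxeterSystem hp.isCartan w a) = ∑ a ∈ RR, F a := by
  refine Finset.sum_bij (fun a _ => rep CoxeterMatrix.F₄.toCoxeterSystem hp.isCartan w a) ?_ ?_ ?_ ?_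
  · intro a ha
    rw [mem_RR] at ha ⊢
    exact ha.act w
  · intro a _ b _ h
    have h2 := congrArg (rep CoxeterMatrix.F₄.toCoxeterSystem hp.isCartan w⁻¹) h
    simpa only [← Module.End.mul_apply, ← map_mul, inv_mul_cancel, map_one, Module.End.one_apply] using h2
  · intro b hb
    rw [mem_RR] at hb
    refine ⟨rep CoxeterMatrix.F₄.toCoxeterSystem hp.isCartan w⁻¹ b, mem_RR.2 (hb.act w⁻¹), ?_⟩
    rw [← Module.End.mul_apply, ← map_mul, mul_inv_cancel, map_one, Module.End.one_apply]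
  · intro a _
    rfl

theorem La_neg (L x : Fin 4 → ℤ) : La L (-x) = - La L x := by
  unfold La
  rw [← Finset.sum_neg_distrib]
  exact Finset.sum_congr rfl fun i _ => by rw [Pi.neg_apply, neg_mul]

/-- **The exponents of the fusion.** -/
theorem pow_eq_one {p N : ℕ} [Fact p.Prime] (hp2 : p ≠ 2) (hpN : p ∣ N) {L : Fin 4 → ℤ} {i : ℕ}
    {w : CoxeterMatrix.F₄.Group}
    (h : ∀ a, (N : ℤ) ∣ i * La L (rep CoxeterMatrix.F₄.toCoxeterSystem hp.isCartan w a) - La L a) {n : ℕ} (hn : Even n)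
    (hs : ¬ (p : ℤ) ∣ ∑ s, La L (RT s) ^ n) : (i : ZMod p) ^ n = 1 := by
  have h1 : ∀ a, ((i : ZMod p) * (La L (rep CoxeterMatrix.F₄.toCoxeterSystem hp.isCartan w a) : ℤ)) = (La L a : ℤ) := by
    intro a
    have h2 := (Int.natCast_dvd_natCast.2 hpN).trans (h a)
    rw [← ZMod.intCast_zmod_eq_zero_iff_dvd] at h2
    push_cast at h2
    exact sub_eq_zero.1 h2
  set F : (Fin 4 → ℤ) → ZMod p := fun a => ((La L a : ℤ) : ZMod p) ^ n with hF
  have h2 : ∑ a ∈ RR, F a = (i : ZMod p) ^ n * ∑ a ∈ RR, F a := by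
    rw [← sum_act w F, Finset.mul_sum, sum_act w F]
    refine Finset.sum_congr rfl fun a _ => ?_
    show _ = (i : ZMod p) ^ n * ((La L (rep CoxeterMatrix.F₄.toCoxeterSystem hp.isCartan w a) : ℤ) : ZMod p) ^ n
    rw [← mul_pow, h1]
  have h3 : ∑ a ∈ RR, F a ≠ 0 := by
    rw [sum_RR (fun a => by show ((La L (-a) : ℤ) : ZMod p) ^ n = _; rw [La_neg]; push_cast; exact hn.neg_pow _)]
    refine mul_ne_zero ?_ ?_
    · intro h4
      have h5 : p ∣ 2 := (ZMod.natCast_eq_zero_iff 2 p).1 (by exact_mod_cast h4)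
      exact hp2 ((Nat.prime_dvd_prime_iff_eq Fact.out Nat.prime_two).1 h5)
    · intro h4
      apply hs
      rw [← ZMod.intCast_zmod_eq_zero_iff_dvd]
      push_cast
      exact h4
  have h4 : ((i : ZMod p) ^ n - 1) * ∑ a ∈ RR, F a = 0 := by rw [sub_mul, one_mul, ← h2, sub_self]
  exact sub_eq_zero.1 ((mul_eq_zero.1 h4).resolve_right h3)

/-! ### the functionals -/

/-- the functional of the tori `q ∓ 1` -/
def L1 (u : ℤ) : Fin 4 → ℤ := ![2 * u, -u, -1, 2]

/-- the functional of the tori `q ± √2q + 1` -/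
def L2 (u : ℤ) : Fin 4 → ℤ := ![1 - u, 0, 0, 2 * u - 1]

theorem sum_lin (u : ℤ) : ∑ s, La (L1 u) (RT s) ^ 2 = 36 + (2 * u ^ 2 - 1) * 18 := by
  simp [Fin.sum_univ_succ, La, L1, RT]
  ring

theorem sum_six (u : ℤ) : ∑ s, La (L1 u) (RT s) ^ 6 = 126 + (2 * u ^ 2 + 1) * (-48 + 396 * u ^ 2 + 228 * u ^ 4) := by
  simp [Fin.sum_univ_succ, La, L1, RT]
  ring

theorem sum_eight (u : ℤ) : 2 * ∑ s, La (L1 u) (RT s) ^ 8 =
    765 + (2 * u ^ 2 + 1) * (-225 + 1570 * u ^ 2 + 6380 * u ^ 4 + 1800 * u ^ 6) := by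
  simp [Fin.sum_univ_succ, La, L1, RT]
  ring

theorem sum_eight' (u : ℤ) : 2 * ∑ s, La (L2 u) (RT s) ^ 8 =
    85 + (2 * u ^ 2 - 2 * u + 1) * (455 - 3410 * u + 7950 * u ^ 2 - 10880 * u ^ 3 + 9940 * u ^ 4 - 5400 * u ^ 5 +
      1800 * u ^ 6) := by
  simp [Fin.sum_univ_succ, La, L2, RT]
  ring

theorem sum_twelve (u : ℤ) : 8 * ∑ s, La (L2 u) (RT s) ^ 12 =
    -945 + (2 * u ^ 2 - 2 * u + 1) * (33825 - 326910 * u + 1453890 * u ^ 2 - 3724800 * u ^ 3 + 6195420 * u ^ 4 -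
      7150920 * u ^ 5 + 5979960 * u ^ 6 - 3770880 * u ^ 7 + 1803120 * u ^ 8 - 573600 * u ^ 9 + 114720 * u ^ 10) := by
  simp [Fin.sum_univ_succ, La, L2, RT]
  ring

/-! ### the bounds -/

theorem not_dvd_of {p : ℕ} {m S c r q : ℤ} (h : m * S = c + r * q) (hr : (p : ℤ) ∣ r) (hc : ¬ (p : ℤ) ∣ c) :
    ¬ (p : ℤ) ∣ S := by
  intro hS
  apply hc
  have h1 : c = m * S - r * q := by rw [h]; ring
  rw [h1]
  exact dvd_sub (hS.mul_left _) (hr.mul_right _)

/-- a prime `≥ 11` different from `17` dividing a product of powers of `2, 3, 5, 7, 17` -/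
theorem aux {r a b c d e : ℕ} (hr : r.Prime) (h11 : 11 ≤ r) (h17 : r ≠ 17)
    (h : r ∣ 2 ^ a * 3 ^ b * 5 ^ c * 7 ^ d * 17 ^ e) : False := by
  have key : ∀ s k : ℕ, s.Prime → r ≠ s → r ∣ s ^ k → False := fun s k hs hne h1 =>
    hne ((Nat.prime_dvd_prime_iff_eq hr hs).1 (hr.dvd_of_dvd_pow h1))
  rcases hr.dvd_mul.1 h with h | h
  · rcases hr.dvd_mul.1 h with h | h
    · rcases hr.dvd_mul.1 h with h | h
      · rcases hr.dvd_mul.1 h with h | h
        · exact key 2 a Nat.prime_two (by omega) h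
        · exact key 3 b Nat.prime_three (by omega) h
      · exact key 5 c Nat.prime_five (by omega) h
    · exact key 7 d (by norm_num) (by omega) h
  · exact key 17 e (by norm_num) h17 h

theorem aux' {r a b c d : ℕ} (hr : r.Prime) (h11 : 11 ≤ r)
    (h : r ∣ 2 ^ a * 3 ^ b * 5 ^ c * 7 ^ d) : False := by
  by_cases h17 : r = 17
  · subst h17
    have key : ∀ s k : ℕ, s.Prime → 17 ≠ s → 17 ∣ s ^ k → False := fun s k hs hne h1 =>
      hne ((Nat.prime_dvd_prime_iff_eq hr hs).1 (hr.dvd_of_dvd_pow h1))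
    rcases hr.dvd_mul.1 h with h | h
    · rcases hr.dvd_mul.1 h with h | h
      · rcases hr.dvd_mul.1 h with h | h
        · exact key 2 a Nat.prime_two (by omega) h
        · exact key 3 b Nat.prime_three (by omega) h
      · exact key 5 c Nat.prime_five (by omega) h
    · exact key 7 d (by norm_num) (by omega) h
  · exact aux hr h11 h17 (a := a) (b := b) (c := c) (d := d) (e := 0) (by rwa [pow_zero 17, mul_one])

section

variable {p N : ℕ} [Fact p.Prime] (h11 : 11 ≤ p) (hpN : p ∣ N) {u : ℤ} {i : ℕ} {w : CoxeterMatrix.F₄.Group}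

include h11 hpN

/-- `p ∣ q - 1` -/
theorem fus_one (hu : (p : ℤ) ∣ 2 * u ^ 2 - 1)
    (h : ∀ a, (N : ℤ) ∣ i * La (L1 u) (rep CoxeterMatrix.F₄.toCoxeterSystem hp.isCartan w a) - La (L1 u) a) :
    (i : ZMod p) ^ 2 = 1 := by
  have hp : p.Prime := Fact.out
  refine pow_eq_one (by omega) hpN h (by decide) ?_
  refine not_dvd_of (m := 1) (by rw [one_mul]; exact sum_lin u) hu ?_
  intro h1
  exact aux' hp h11 (a := 2) (b := 2) (c := 0) (d := 0) (Int.natCast_dvd_natCast.1 (by exact_mod_cast h1))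

/-- `p ∣ q + 1` -/
theorem fus_two (hu : (p : ℤ) ∣ 2 * u ^ 2 + 1)
    (h : ∀ a, (N : ℤ) ∣ i * La (L1 u) (rep CoxeterMatrix.F₄.toCoxeterSystem hp.isCartan w a) - La (L1 u) a) :
    (i : ZMod p) ^ 2 = 1 := by
  have hp : p.Prime := Fact.out
  have h6 : (i : ZMod p) ^ 6 = 1 := by
    refine pow_eq_one (by omega) hpN h (by decide) ?_
    refine not_dvd_of (m := 1) (by rw [one_mul]; exact sum_six u) hu ?_
    intro h1
    exact aux' hp h11 (a := 1) (b := 2) (c := 0) (d := 1) (Int.natCast_dvd_natCast.1 (by exact_mod_cast h1))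
  by_cases h17 : p = 17
  · subst h17
    have h0 : (i : ZMod 17) ≠ 0 := by
      intro h0
      rw [h0, zero_pow (by norm_num)] at h6
      exact zero_ne_one h6
    have h16 := ZMod.pow_card_sub_one_eq_one h0
    calc (i : ZMod 17) ^ 2 = (i : ZMod 17) ^ (17 - 1) * (i : ZMod 17) ^ 2 := by rw [h16, one_mul]
      _ = ((i : ZMod 17) ^ 6) ^ 3 := by ring
      _ = 1 := by rw [h6, one_pow]
  · have h8 : (i : ZMod p) ^ 8 = 1 := by
      refine pow_eq_one (by omega) hpN h (by decide) ?_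
      refine not_dvd_of (sum_eight u) hu ?_
      intro h1
      exact aux hp h11 h17 (a := 0) (b := 2) (c := 1) (d := 0) (e := 1) (Int.natCast_dvd_natCast.1 (by exact_mod_cast h1))
    calc (i : ZMod p) ^ 2 = (i : ZMod p) ^ 6 * (i : ZMod p) ^ 2 := by rw [h6, one_mul]
      _ = (i : ZMod p) ^ 8 := by ring
      _ = 1 := h8

/-- `p ∣ q ± √(2q) + 1` -/
theorem fus_three (hu : (p : ℤ) ∣ 2 * u ^ 2 - 2 * u + 1)
    (h : ∀ a, (N : ℤ) ∣ i * La (L2 u) (rep CoxeterMatrix.F₄.toCoxeterSystem hp.isCartan w a) - La (L2 u) a) :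
    (i : ZMod p) ^ 4 = 1 := by
  have hp : p.Prime := Fact.out
  have h12 : (i : ZMod p) ^ 12 = 1 := by
    refine pow_eq_one (by omega) hpN h (by decide) ?_
    refine not_dvd_of (sum_twelve u) hu ?_
    intro h1
    rw [dvd_neg] at h1
    exact aux' hp h11 (a := 0) (b := 3) (c := 1) (d := 1) (Int.natCast_dvd_natCast.1 (by exact_mod_cast h1))
  by_cases h17 : p = 17
  · subst h17
    have h0 : (i : ZMod 17) ≠ 0 := by
      intro h0
      rw [h0, zero_pow (by norm_num)] at h12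
      exact zero_ne_one h12
    have h16 := ZMod.pow_card_sub_one_eq_one h0
    calc (i : ZMod 17) ^ 4 = (i : ZMod 17) ^ 12 * (i : ZMod 17) ^ 4 := by rw [h12, one_mul]
      _ = (i : ZMod 17) ^ (17 - 1) := by ring
      _ = 1 := h16
  · have h8 : (i : ZMod p) ^ 8 = 1 := by
      refine pow_eq_one (by omega) hpN h (by decide) ?_
      refine not_dvd_of (sum_eight' u) hu ?_
      intro h1
      exact aux hp h11 h17 (a := 0) (b := 0) (c := 1) (d := 0) (e := 1) (Int.natCast_dvd_natCast.1 (by exact_mod_cast h1))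
    calc (i : ZMod p) ^ 4 = (i : ZMod p) ^ 8 * (i : ZMod p) ^ 4 := by rw [h8, one_mul]
      _ = (i : ZMod p) ^ 12 := by ring
      _ = 1 := h12

end

end Cfsg.Agent.H97.KB.TwFFus
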