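import Cfsg.Agent.H97.KB.TwFTor
import Cfsg.Agent.H97.KB.TwFFus

/-!
# Elements generating a Sylow subgroup of `²F₄(q)`, and elements normalizing it

`q = 2 u²`, `u = 2 ^ m`.  For `N ∣ q - 1`, `N ∣ q + 1` (`ex_one`, `ex_two`): elements `x`, `y` of order `N` and `c`
centralizing `x` and inverting `y`.  For `N ∣ 2 u² ± 2 u + 1` (`ex_three`, `ex_four`): `c y c⁻¹ = y ^ q`.
-/

set_option autoImplicit false
set_option linter.unusedSectionVars false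
set_option linter.unnecessarySeqFocus false
set_option linter.unreachableTactic false
set_option linter.unusedTactic false

namespace Cfsg.Agent.H97.KB.TwFData

open CoxeterSystem Cfsg Cfsg.Lie Cfsg.Lie.ChevalleyDatum
open Cfsg.Agent.ChevalleyStructure.CoxeterGeom Cfsg.Agent.ChevalleyStructure.CoxeterGeomTypes
open Cfsg.Agent.H129 Cfsg.Agent.H129.WData Cfsg.Agent.H129.SuzT Cfsg.Agent.H493.F4Tor
open Cfsg.Agent.H97.KB.TwFTor Cfsg.Agent.H97.KB.TwFFus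

universe u

/-- the Cartan matrix -/
def Am : Mat 4 := ![![2, -1, 0, 0], ![-1, 2, -2, 0], ![0, -1, 2, -1], ![0, 0, -1, 2]]

theorem hAm : ∀ i j, Am i j = cartanOf chevF4 4 i j := by decide +kernel

/-- the product of the reflections in two orthogonal long roots -/
def C2 : List (Fin 4 × Mat 4) := [(3, ![![1, 0, 0, 0], ![-2, -3, -2, -1], ![2, 4, 3, 2], ![0, 0, 0, -1]]),
  (1, ![![1, 0, 0, 0], ![-2, -3, -2, -1], ![2, 4, 3, 1], ![0, 0, 0, 1]]),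
  (2, ![![1, 1, 0, 0], ![-2, -3, -2, -1], ![2, 4, 3, 1], ![0, 0, 0, 1]]),
  (0, ![![1, 1, 1, 0], ![-2, -3, -2, -1], ![2, 4, 2, 1], ![0, 0, 1, 1]]),
  (1, ![![0, 1, 1, 0], ![-1, -3, -2, -1], ![2, 4, 2, 1], ![0, 0, 1, 1]]),
  (2, ![![0, 1, 1, 0], ![-1, -2, -2, -1], ![2, 2, 2, 1], ![0, 2, 1, 1]]),
  (3, ![![0, 1, 0, 0], ![-1, -2, -1, -1], ![2, 2, 1, 1], ![0, 2, 2, 1]]),
  (2, ![![0, 1, 0, 0], ![-1, -2, -1, 0], ![2, 2, 1, 0], ![0, 2, 2, 1]]),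
  (1, ![![0, 1, 1, 0], ![-1, -2, -1, 0], ![2, 2, 1, 0], ![0, 2, 1, 1]]),
  (2, ![![0, 1, 1, 0], ![-1, -1, -1, 0], ![2, 2, 1, 0], ![0, 0, 1, 1]]),
  (0, ![![0, 1, 0, 0], ![-1, -1, 0, 0], ![2, 2, 1, 0], ![0, 0, 0, 1]]),
  (1, ![![1, 1, 0, 0], ![0, -1, 0, 0], ![0, 2, 1, 0], ![0, 0, 0, 1]])]

/-- the product of the reflections in two orthogonal roots -/
def V1 : List (Fin 4 × Mat 4) := [(2, ![![1, 0, 0, 0], ![-1, -1, 0, 0], ![0, 0, -1, -1], ![0, 0, 0, 1]]),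
  (1, ![![1, 0, 0, 0], ![-1, -1, -1, 0], ![0, 0, 0, -1], ![0, 0, 1, 1]]),
  (2, ![![1, 1, 0, 0], ![-1, -2, -1, 0], ![0, 0, 0, -1], ![0, 2, 1, 1]]),
  (0, ![![1, 1, 1, 0], ![-1, -2, -1, 0], ![0, 0, -1, -1], ![0, 2, 2, 1]]),
  (1, ![![0, 1, 1, 0], ![-1, -2, -1, 0], ![0, 0, -1, -1], ![2, 2, 2, 1]]),
  (2, ![![0, 1, 1, 0], ![-1, -1, -1, 0], ![0, -2, -1, -1], ![2, 4, 2, 1]]),
  (3, ![![0, 1, 0, 0], ![-1, -1, 0, 0], ![0, -2, -2, -1], ![2, 4, 3, 1]]),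
  (2, ![![0, 1, 0, 0], ![-1, -1, 0, 0], ![0, -2, -2, -1], ![2, 4, 3, 2]]),
  (1, ![![0, 1, 1, 0], ![-1, -1, -1, 0], ![0, -2, -1, -1], ![2, 4, 3, 2]]),
  (2, ![![0, 1, 1, 0], ![-1, -2, -1, 0], ![0, 0, -1, -1], ![2, 4, 3, 2]]),
  (0, ![![0, 1, 0, 0], ![-1, -2, -1, 0], ![0, 0, 0, -1], ![2, 4, 3, 2]]),
  (1, ![![1, 1, 0, 0], ![-1, -2, -1, 0], ![0, 0, 0, -1], ![2, 4, 3, 2]]),
  (2, ![![1, 0, 0, 0], ![-1, -1, -1, 0], ![0, 0, 0, -1], ![2, 4, 3, 2]]),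
  (3, ![![1, 0, 0, 0], ![-1, -1, 0, 0], ![0, 0, -1, -1], ![2, 4, 3, 2]]),
  (2, ![![1, 0, 0, 0], ![-1, -1, 0, 0], ![0, 0, -1, 0], ![2, 4, 3, 1]]),
  (1, ![![1, 0, 0, 0], ![-1, -1, -1, 0], ![0, 0, 1, 0], ![2, 4, 2, 1]]),
  (2, ![![1, 1, 0, 0], ![-1, -2, -1, 0], ![0, 2, 1, 0], ![2, 2, 2, 1]]),
  (0, ![![1, 1, 1, 0], ![-1, -2, -1, 0], ![0, 2, 1, 0], ![2, 2, 1, 1]]),
  (1, ![![0, 1, 1, 0], ![-1, -2, -1, 0], ![2, 2, 1, 0], ![0, 2, 1, 1]]),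
  (2, ![![0, 1, 1, 0], ![-1, -1, -1, 0], ![2, 2, 1, 0], ![0, 0, 1, 1]]),
  (0, ![![0, 1, 0, 0], ![-1, -1, 0, 0], ![2, 2, 1, 0], ![0, 0, 0, 1]]),
  (1, ![![1, 1, 0, 0], ![0, -1, 0, 0], ![0, 2, 1, 0], ![0, 0, 0, 1]])]

/-- the product of the reflections in two orthogonal long roots -/
def C3 : List (Fin 4 × Mat 4) := [(2, ![![-1, -2, -1, 0], ![0, 1, 1, 0], ![0, 0, -1, 0], ![2, 2, 2, 1]]),
  (0, ![![-1, -2, -1, 0], ![0, 1, 0, 0], ![0, 0, 1, 0], ![2, 2, 1, 1]]),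
  (1, ![![-1, -2, -1, 0], ![1, 1, 0, 0], ![0, 0, 1, 0], ![0, 2, 1, 1]]),
  (2, ![![-1, -1, -1, 0], ![1, 0, 0, 0], ![0, 2, 1, 0], ![0, 0, 1, 1]]),
  (1, ![![-1, -1, 0, 0], ![1, 0, 0, 0], ![0, 2, 1, 0], ![0, 0, 0, 1]]),
  (0, ![![-1, 0, 0, 0], ![1, 1, 0, 0], ![0, 0, 1, 0], ![0, 0, 0, 1]])]

/-- the product of the reflections in two orthogonal long roots -/
def C4 : List (Fin 4 × Mat 4) := [(3, ![![1, 2, 1, 0], ![0, -1, -1, 0], ![0, 0, 1, 0], ![-2, -2, -2, -1]]),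
  (2, ![![1, 2, 1, 1], ![0, -1, -1, -1], ![0, 0, 1, 1], ![-2, -2, -2, -1]]),
  (1, ![![1, 2, 2, 1], ![0, -1, -1, -1], ![0, 0, 0, 1], ![-2, -2, -1, -1]]),
  (2, ![![1, 3, 2, 1], ![0, -1, -1, -1], ![0, 0, 0, 1], ![-2, -2, -1, -1]]),
  (0, ![![1, 3, 2, 1], ![0, -1, -1, -1], ![0, 0, 1, 1], ![-2, -2, -2, -1]]),
  (1, ![![2, 3, 2, 1], ![-1, -1, -1, -1], ![0, 0, 1, 1], ![0, -2, -2, -1]]),
  (2, ![![2, 3, 2, 1], ![-1, -2, -1, -1], ![0, 2, 1, 1], ![0, -2, -2, -1]]),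
  (3, ![![2, 3, 2, 1], ![-1, -2, -2, -1], ![0, 2, 2, 1], ![0, -2, -1, -1]]),
  (2, ![![2, 3, 2, 1], ![-1, -2, -2, -1], ![0, 2, 2, 1], ![0, -2, -1, 0]]),
  (1, ![![2, 3, 2, 1], ![-1, -2, -1, -1], ![0, 2, 1, 1], ![0, -2, -1, 0]]),
  (2, ![![2, 3, 2, 1], ![-1, -1, -1, -1], ![0, 0, 1, 1], ![0, 0, -1, 0]]),
  (0, ![![2, 3, 2, 1], ![-1, -1, -1, -1], ![0, 0, 0, 1], ![0, 0, 1, 0]]),
  (1, ![![1, 3, 2, 1], ![0, -1, -1, -1], ![0, 0, 0, 1], ![0, 0, 1, 0]]),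
  (2, ![![1, 2, 2, 1], ![0, -1, -1, -1], ![0, 0, 0, 1], ![0, 2, 1, 0]]),
  (3, ![![1, 2, 1, 1], ![0, -1, -1, -1], ![0, 0, 1, 1], ![0, 2, 1, 0]]),
  (1, ![![1, 2, 1, 0], ![0, -1, -1, 0], ![0, 0, 1, 0], ![0, 2, 1, 1]]),
  (2, ![![1, 1, 1, 0], ![0, -1, -1, 0], ![0, 2, 1, 0], ![0, 0, 1, 1]]),
  (1, ![![1, 1, 0, 0], ![0, -1, 0, 0], ![0, 2, 1, 0], ![0, 0, 0, 1]])]

/-- a product of two simple reflections -/
def V3 : List (Fin 4 × Mat 4) := [(1, ![![1, 1, 0, 0], ![0, 1, 1, 0], ![0, -2, -1, 0], ![0, 2, 1, 1]]),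
  (2, ![![1, 0, 0, 0], ![0, 1, 1, 0], ![0, 0, -1, 0], ![0, 0, 1, 1]])]

theorem ok_C2 : ChainOK Am C2 := by decide +kernel

theorem ok_V1 : ChainOK Am V1 := by decide +kernel

theorem ok_C3 : ChainOK Am C3 := by decide +kernel

theorem ok_C4 : ChainOK Am C4 := by decide +kernel

theorem ok_V3 : ChainOK Am V3 := by decide +kernel

/-- the images of the simple roots -/
def T1 : Fin 4 → Fin 4 → ℤ := ![![0, 0, 0, 1], ![0, 0, 1, 0], ![0, 1, 0, 0], ![1, 0, 0, 0]]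

/-- the images of the simple roots -/
def T2 : Fin 4 → Fin 4 → ℤ := ![![0, 0, 0, -1], ![2, 4, 3, 2], ![-2, -3, -2, -1], ![1, 0, 0, 0]]

/-- the images of the simple roots -/
def T3 : Fin 4 → Fin 4 → ℤ := ![![2, 2, 2, 1], ![0, 0, -1, 0], ![0, 1, 1, 0], ![-1, -2, -1, 0]]

/-- the images of the simple roots -/
def T4 : Fin 4 → Fin 4 → ℤ := ![![-2, -2, -2, -1], ![0, 0, 1, 0], ![0, -1, -1, 0], ![1, 2, 1, 0]]

theorem hT1 : ∀ j, hd ([] : List (Fin 4 × Mat 4)) (rv j) = T1 j := by decide +kernel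

theorem hT2 : ∀ j, hd C2 (rv j) = T2 j := by decide +kernel

theorem hT3 : ∀ j, hd C3 (rv j) = T3 j := by decide +kernel

theorem hT4 : ∀ j, hd C4 (rv j) = T4 j := by decide +kernel

theorem weq1 : weq (([] : List (Fin 4 × Mat 4)).map Prod.fst ++ (V1.map Prod.fst).map rv)
    (V1.map Prod.fst ++ ([] : List (Fin 4 × Mat 4)).map Prod.fst) = true := by decide +kernel

theorem weq2 : weq (C2.map Prod.fst ++ (V1.map Prod.fst).map rv) (V1.map Prod.fst ++ C2.map Prod.fst) = true := by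
  decide +kernel

theorem weq3 : weq (C3.map Prod.fst ++ (V3.map Prod.fst).map rv) (V3.map Prod.fst ++ C3.map Prod.fst) = true := by
  decide +kernel

theorem weq4 : weq (C4.map Prod.fst ++ (V3.map Prod.fst).map rv) (V3.map Prod.fst ++ C4.map Prod.fst) = true := by
  decide +kernel

/-- the second functional of the tori `q ∓ 1` -/
def M1 (u : ℤ) : Fin 4 → ℤ := ![0, 1 - u, 2 * u - 1, 0]

/-- the second functional of the tori `q ± √2q + 1` -/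
def M2 (u : ℤ) : Fin 4 → ℤ := ![-u, 2 * u - 1, 2 - 2 * u, -1]

theorem row_1_L1 (u : ℤ) (j : Fin 4) : (2 * u ^ 2 - 1) ∣ ∑ i, rowM T1 u j i * L1 u i := by
  fin_cases j
  · exact ⟨(-2), by simp [rowM, T1, L1, eN, Fin.sum_univ_succ]; try ring⟩
  · exact ⟨(1), by simp [rowM, T1, L1, eN, Fin.sum_univ_succ]; try ring⟩
  · exact ⟨0, by simp [rowM, T1, L1, eN, Fin.sum_univ_succ]; try ring⟩
  · exact ⟨0, by simp [rowM, T1, L1, eN, Fin.sum_univ_succ]; try ring⟩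

theorem row_1_M1 (u : ℤ) (j : Fin 4) : (2 * u ^ 2 - 1) ∣ ∑ i, rowM T1 u j i * M1 u i := by
  fin_cases j
  · exact ⟨0, by simp [rowM, T1, M1, eN, Fin.sum_univ_succ]; try ring⟩
  · exact ⟨(1), by simp [rowM, T1, M1, eN, Fin.sum_univ_succ]; try ring⟩
  · exact ⟨(-1), by simp [rowM, T1, M1, eN, Fin.sum_univ_succ]; try ring⟩
  · exact ⟨0, by simp [rowM, T1, M1, eN, Fin.sum_univ_succ]; try ring⟩

theorem row_2_L1 (u : ℤ) (j : Fin 4) : (2 * u ^ 2 + 1) ∣ ∑ i, rowM T2 u j i * L1 u i := by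
  fin_cases j
  · exact ⟨(-2), by simp [rowM, T2, L1, eN, Fin.sum_univ_succ]; try ring⟩
  · exact ⟨(1), by simp [rowM, T2, L1, eN, Fin.sum_univ_succ]; try ring⟩
  · exact ⟨0, by simp [rowM, T2, L1, eN, Fin.sum_univ_succ]; try ring⟩
  · exact ⟨0, by simp [rowM, T2, L1, eN, Fin.sum_univ_succ]; try ring⟩

theorem row_2_M1 (u : ℤ) (j : Fin 4) : (2 * u ^ 2 + 1) ∣ ∑ i, rowM T2 u j i * M1 u i := by
  fin_cases j
  · exact ⟨0, by simp [rowM, T2, M1, eN, Fin.sum_univ_succ]; try ring⟩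
  · exact ⟨(1), by simp [rowM, T2, M1, eN, Fin.sum_univ_succ]; try ring⟩
  · exact ⟨(-1), by simp [rowM, T2, M1, eN, Fin.sum_univ_succ]; try ring⟩
  · exact ⟨0, by simp [rowM, T2, M1, eN, Fin.sum_univ_succ]; try ring⟩

theorem row_3_L2 (u : ℤ) (j : Fin 4) : (2 * u ^ 2 - 2 * u + 1) ∣ ∑ i, rowM T3 u j i * L2 u i := by
  fin_cases j
  · exact ⟨(1), by simp [rowM, T3, L2, eN, Fin.sum_univ_succ]; try ring⟩
  · exact ⟨0, by simp [rowM, T3, L2, eN, Fin.sum_univ_succ]; try ring⟩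
  · exact ⟨0, by simp [rowM, T3, L2, eN, Fin.sum_univ_succ]; try ring⟩
  · exact ⟨(-1), by simp [rowM, T3, L2, eN, Fin.sum_univ_succ]; try ring⟩

theorem row_3_M2 (u : ℤ) (j : Fin 4) : (2 * u ^ 2 - 2 * u + 1) ∣ ∑ i, rowM T3 u j i * M2 u i := by
  fin_cases j
  · exact ⟨(1), by simp [rowM, T3, M2, eN, Fin.sum_univ_succ]; try ring⟩
  · exact ⟨(-2), by simp [rowM, T3, M2, eN, Fin.sum_univ_succ]; try ring⟩
  · exact ⟨(1), by simp [rowM, T3, M2, eN, Fin.sum_univ_succ]; try ring⟩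
  · exact ⟨0, by simp [rowM, T3, M2, eN, Fin.sum_univ_succ]; try ring⟩

theorem row_4_L2 (u : ℤ) (j : Fin 4) : (2 * u ^ 2 + 2 * u + 1) ∣ ∑ i, rowM T4 u j i * L2 (-u) i := by
  fin_cases j
  · exact ⟨(-1), by simp [rowM, T4, L2, eN, Fin.sum_univ_succ]; try ring⟩
  · exact ⟨0, by simp [rowM, T4, L2, eN, Fin.sum_univ_succ]; try ring⟩
  · exact ⟨0, by simp [rowM, T4, L2, eN, Fin.sum_univ_succ]; try ring⟩
  · exact ⟨(1), by simp [rowM, T4, L2, eN, Fin.sum_univ_succ]; try ring⟩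

theorem row_4_M2 (u : ℤ) (j : Fin 4) : (2 * u ^ 2 + 2 * u + 1) ∣ ∑ i, rowM T4 u j i * M2 (-u) i := by
  fin_cases j
  · exact ⟨(-1), by simp [rowM, T4, M2, eN, Fin.sum_univ_succ]; try ring⟩
  · exact ⟨(2), by simp [rowM, T4, M2, eN, Fin.sum_univ_succ]; try ring⟩
  · exact ⟨(-1), by simp [rowM, T4, M2, eN, Fin.sum_univ_succ]; try ring⟩
  · exact ⟨0, by simp [rowM, T4, M2, eN, Fin.sum_univ_succ]; try ring⟩

theorem v_L1 (u : ℤ) (i : Fin 4) : La (L1 u) (hd V1 i) = L1 u i := by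
  fin_cases i <;> simp [La, L1, V1, hd, Fin.sum_univ_succ] <;> try ring

theorem v_M1 (u : ℤ) (i : Fin 4) : La (M1 u) (hd V1 i) = - M1 u i := by
  fin_cases i <;> simp [La, M1, V1, hd, Fin.sum_univ_succ] <;> try ring

theorem v_L2 (u : ℤ) (i : Fin 4) : La (L2 u) (hd V3 i) = L2 u i := by
  fin_cases i <;> simp [La, L2, V3, hd, Fin.sum_univ_succ] <;> try ring

theorem v_M2 (u : ℤ) (i : Fin 4) : 2 * u ^ 2 - 2 * u + 1 ∣ 2 * u ^ 2 * La (M2 u) (hd V3 i) - M2 u i := by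
  fin_cases i
  · exact ⟨(1) * u, by simp [La, M2, V3, hd, Fin.sum_univ_succ]; try ring⟩
  · exact ⟨(1), by simp [La, M2, V3, hd, Fin.sum_univ_succ]; try ring⟩
  · exact ⟨(-2) + (-2) * u, by simp [La, M2, V3, hd, Fin.sum_univ_succ]; try ring⟩
  · exact ⟨(1) + (2) * u, by simp [La, M2, V3, hd, Fin.sum_univ_succ]; try ring⟩

/-! ### separation -/

theorem odd_of {N : ℕ} (hN2 : ¬ 2 ∣ N) (a : ℤ) (h : (N : ℤ) ∣ a * 2) : (N : ℤ) ∣ a := by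
  have h1 : IsCoprime (N : ℤ) 2 := by
    have h2 : Nat.Coprime N 2 := ((Nat.Prime.coprime_iff_not_dvd Nat.prime_two).2 hN2).symm
    exact_mod_cast Nat.isCoprime_iff_coprime.2 h2
  exact h1.dvd_of_dvd_mul_right h

/-! ### the elements -/

section

variable {K : Type u} [Field K] [Fintype K] {m : ℕ} (hK : Fintype.card K = 2 ^ (2 * m + 1)) {N : ℕ} (hN2 : ¬ 2 ∣ N)

/-- the elements `x`, `y`, `c` -/
def Ex (K : Type u) [Field K] (m N j : ℕ) (L : Fin 4 → ℤ) : Prop :=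
  ∃ x y c : ↥(twistedF4 K (2 ^ m)), orderOf x = N ∧ orderOf y = N ∧ Commute x y ∧
      Subgroup.zpowers x ⊓ Subgroup.zpowers y = ⊥ ∧ Commute c x ∧ c * y * c⁻¹ = y ^ j ∧
      ∀ (g : ↥(twistedF4 K (2 ^ m))) (i : ℕ), g * x * g⁻¹ = x ^ i → ∃ w : CoxeterMatrix.F₄.Group,
        ∀ a, (N : ℤ) ∣ i * La L (rep CoxeterMatrix.F₄.toCoxeterSystem hp.isCartan w a) - La L a

include hK hN2

theorem ex_one (h : (N : ℤ) ∣ 2 * (2 ^ m) ^ 2 - 1) {j : ℕ} (hj : (N : ℤ) ∣ j + 1) : Ex K m N j (L1 (2 ^ m)) := by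
  refine exists_xyc (C := []) (Cv := V1) (Th := T1) (Ly := M1 (2 ^ m)) (bx := ![0, 0, 0, 1]) (by' := ![2, 4, 2, 1]) hK
    hAm trivial hT1 ok_V1 weq1 hN2 (fun j => h.trans (row_1_L1 _ j)) (fun j => h.trans (row_1_M1 _ j)) ?_ ?_ ?_ ?_ ?_
  · intro i
    rw [v_L1, Nat.cast_one, one_mul, sub_self]
    exact dvd_zero _
  · intro i
    rw [v_M1]
    have e : (j : ℤ) * -M1 (2 ^ m) i - M1 (2 ^ m) i = (j + 1) * -M1 (2 ^ m) i := by ring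
    rw [e]
    exact hj.mul_right _
  · intro a ha
    have e : La (L1 (2 ^ m)) ![0, 0, 0, 1] = 2 := by simp [La, L1, Fin.sum_univ_succ]
    rw [e] at ha
    exact odd_of hN2 a ha
  · simp [La, M1, Fin.sum_univ_succ]
  · intro a ha
    have e : La (M1 (2 ^ m)) ![2, 4, 2, 1] = 2 := by simp [La, M1, Fin.sum_univ_succ]; try ring
    rw [e] at ha
    exact odd_of hN2 a ha

theorem ex_two (h : (N : ℤ) ∣ 2 * (2 ^ m) ^ 2 + 1) {j : ℕ} (hj : (N : ℤ) ∣ j + 1) : Ex K m N j (L1 (2 ^ m)) := by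
  refine exists_xyc (C := C2) (Cv := V1) (Th := T2) (Ly := M1 (2 ^ m)) (bx := ![0, 0, 0, 1]) (by' := ![2, 4, 2, 1]) hK
    hAm ok_C2 hT2 ok_V1 weq2 hN2 (fun j => h.trans (row_2_L1 _ j)) (fun j => h.trans (row_2_M1 _ j)) ?_ ?_ ?_ ?_ ?_
  · intro i
    rw [v_L1, Nat.cast_one, one_mul, sub_self]
    exact dvd_zero _
  · intro i
    rw [v_M1]
    have e : (j : ℤ) * -M1 (2 ^ m) i - M1 (2 ^ m) i = (j + 1) * -M1 (2 ^ m) i := by ring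
    rw [e]
    exact hj.mul_right _
  · intro a ha
    have e : La (L1 (2 ^ m)) ![0, 0, 0, 1] = 2 := by simp [La, L1, Fin.sum_univ_succ]
    rw [e] at ha
    exact odd_of hN2 a ha
  · simp [La, M1, Fin.sum_univ_succ]
  · intro a ha
    have e : La (M1 (2 ^ m)) ![2, 4, 2, 1] = 2 := by simp [La, M1, Fin.sum_univ_succ]; try ring
    rw [e] at ha
    exact odd_of hN2 a ha

theorem ex_three (h : (N : ℤ) ∣ 2 * (2 ^ m) ^ 2 - 2 * 2 ^ m + 1) {j : ℕ} (hj : (j : ℤ) = 2 * (2 ^ m) ^ 2) :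
    Ex K m N j (L2 (2 ^ m)) := by
  refine exists_xyc (C := C3) (Cv := V3) (Th := T3) (Ly := M2 (2 ^ m)) (bx := ![2, 3, 2, 1]) (by' := ![0, 1, 1, 0]) hK
    hAm ok_C3 hT3 ok_V3 weq3 hN2 (fun j => h.trans (row_3_L2 _ j)) (fun j => h.trans (row_3_M2 _ j)) ?_ ?_ ?_ ?_ ?_
  · intro i
    rw [v_L2, Nat.cast_one, one_mul, sub_self]
    exact dvd_zero _
  · intro i
    rw [hj]
    exact h.trans (v_M2 _ i)
  · intro a ha
    have e : La (L2 (2 ^ m)) ![2, 3, 2, 1] = 1 := by simp [La, L2, Fin.sum_univ_succ]; try ring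
    rwa [e, mul_one] at ha
  · simp [La, M2, Fin.sum_univ_succ]; try ring
  · intro a ha
    have e : La (M2 (2 ^ m)) ![0, 1, 1, 0] = 1 := by simp [La, M2, Fin.sum_univ_succ]; try ring
    rwa [e, mul_one] at ha

theorem ex_four (h : (N : ℤ) ∣ 2 * (2 ^ m) ^ 2 + 2 * 2 ^ m + 1) {j : ℕ} (hj : (j : ℤ) = 2 * (2 ^ m) ^ 2) :
    Ex K m N j (L2 (-2 ^ m)) := by
  refine exists_xyc (C := C4) (Cv := V3) (Th := T4) (Ly := M2 (-2 ^ m)) (bx := ![2, 3, 2, 1]) (by' := ![0, 1, 1, 0]) hK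
    hAm ok_C4 hT4 ok_V3 weq4 hN2 (fun j => h.trans (row_4_L2 _ j)) (fun j => h.trans (row_4_M2 _ j)) ?_ ?_ ?_ ?_ ?_
  · intro i
    rw [v_L2, Nat.cast_one, one_mul, sub_self]
    exact dvd_zero _
  · intro i
    rw [hj]
    have h1 := v_M2 (-2 ^ m) i
    have e1 : 2 * (-2 ^ m : ℤ) ^ 2 - 2 * (-2 ^ m) + 1 = 2 * (2 ^ m) ^ 2 + 2 * 2 ^ m + 1 := by ring
    have e2 : 2 * (-2 ^ m : ℤ) ^ 2 = 2 * (2 ^ m) ^ 2 := by ring
    rw [e1, e2] at h1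
    exact h.trans h1
  · intro a ha
    have e : La (L2 (-2 ^ m)) ![2, 3, 2, 1] = 1 := by simp [La, L2, Fin.sum_univ_succ]; try ring
    rwa [e, mul_one] at ha
  · simp [La, M2, Fin.sum_univ_succ]; try ring
  · intro a ha
    have e : La (M2 (-2 ^ m)) ![0, 1, 1, 0] = 1 := by simp [La, M2, Fin.sum_univ_succ]; try ring
    rwa [e, mul_one] at ha

end

end Cfsg.Agent.H97.KB.TwFData
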