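import Cfsg.Agent.H97.KB.TwFDat
import Cfsg.Agent.H191.KB.Final
import Cfsg.Agent.H299.AO.TwoF4
import Cfsg.Agent.H832.KB.RankTwo

/-!
# S4822 [KE9]: the row `²F₄(q)`

`kb_2F4` : `p ≤ k(B₀(S))`; `row_2F4` : the row.
-/

set_option autoImplicit false

open Cfsg Subgroup Cfsg.Agent.H508.KB

namespace Cfsg.Agent.H97.KB

universe u

/-- **`p ≤ k(B₀(²F₄(q)))`** if the Sylow `p`-subgroups are not cyclic, `p ≥ 11` -/
theorem kb_2F4 {p : ℕ} [Fact p.Prime] {M : Ideal AlgInt} {S : Type u} [Group S] [Finite S] (h11 : 11 ≤ p)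
    (hM : IsPModular p M) (h : Lie.Iso2F4 S) (hP : ∀ P : Sylow p S, ¬ IsCyclic (P : Subgroup S)) : p ≤ kB M S := by
  obtain ⟨K, _, _, m, -, hK, ⟨f⟩⟩ := h
  have hfin : Finite ↥(Lie.twistedF4 K (2 ^ m)) := inferInstance
  have h1 : TwFDat.Dat p ↥(Lie.twistedF4 K (2 ^ m)) := by
    refine TwFDat.exists_dat h11 hK fun P hc => ?_
    have hs : Function.Surjective f.symm.toMonoidHom := f.symm.surjective
    refine hP (P.mapSurjective hs) ?_
    have h2 : IsCyclic ↥((P : Subgroup ↥(Lie.twistedF4 K (2 ^ m))).map f.symm.toMonoidHom) :=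
      ((P : Subgroup ↥(Lie.twistedF4 K (2 ^ m))).equivMapOfInjective f.symm.toMonoidHom f.symm.injective).isCyclic.1 hc
    exact h2
  obtain ⟨P, x, y, c, e, j, h1, h2, h3, h4, h5, h6, h7, h8, h9⟩ := h1.congr f.symm
  exact h9.trans (H832.KB.kB_of_rank_two hM P x y h2 h1 h3 h4 h5 e h6 c h7 j h8)

variable (p : ℕ) [Fact p.Prime] {M : Ideal AlgInt} (S : Type u) [Group S] [Finite S] [IsSimpleGroup S]

/-- **The row `²F₄(q)`.** -/
theorem row_2F4 (h11 : 11 ≤ p) (hM : IsPModular p M) (h : Lie.Iso2F4 S)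
    (hP : ∀ P : Sylow p S, ¬ IsCyclic (P : Subgroup S)) : Row p M S :=
  H191.KB.row_of_ab hM (H299.AO.ab_2F4 p S (by omega) h) (kb_2F4 h11 hM h hP)

end Cfsg.Agent.H97.KB

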