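import Cfsg.Agent.H129.SuzT

/-!
# Two commuting torus elements of `²F₄(q)` and an element normalizing them

`exists_xyc` : `q = 2 ^ (2m+1)`; from words for `w`, `v` in the Weyl group of type `F₄` and functionals `Lx`, `Ly` on the
root lattice modulo `N` there are elements `x`, `y` of order `N` with `⟨x⟩ ⊓ ⟨y⟩ = 1` and `c` centralizing `x`, with
`c y c⁻¹ = y ^ j`; conjugate powers of `x` come from the Weyl group.
-/

set_option autoImplicit false
set_option linter.unusedSectionVars false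

namespace Cfsg.Agent.H97.KB.TwFTor

open CoxeterSystem Cfsg Cfsg.Lie Cfsg.Lie.ChevalleyDatum
open Cfsg.Agent.ChevalleyStructure Cfsg.Agent.ChevalleyStructure.Elts Cfsg.Agent.ChevalleyStructure.CoxeterGeom
  Cfsg.Agent.ChevalleyStructure.CoxeterGeomTypes Cfsg.Agent.ChevalleyStructure.NPerm
open Cfsg.Agent.Tits.Roots Cfsg.Agent.Tits.Core Cfsg.Agent.Nodes Cfsg.Agent.Nodes.Reps Cfsg.Agent.Nodes.BNOf
  Cfsg.Agent.Nodes.RGDChev Cfsg.Agent.Nodes.Bruhat Cfsg.Agent.Nodes.SubComb Cfsg.Agent.Nodes.Coroot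
open Cfsg.Agent.KFacts.RgdField Cfsg.Agent.KFacts.RgdChevCoord Cfsg.Agent.BpExc.TorCent Cfsg.Agent.BpExc.TorChev
open Cfsg.Agent.GpExc.Field Cfsg.Agent.BpExc.Tow Cfsg.Agent.BpExc.TowChev
  Cfsg.Agent.BpExc.LangFr Cfsg.Agent.BpExc Cfsg.Agent.H129.TorusChar Cfsg.Agent.H129.TorusUntw
open Cfsg.Agent.H129.TorusCent Cfsg.Agent.H129.StabGen Cfsg.Agent.H129.TorAct
open Cfsg.Agent.H493.F4End Cfsg.Agent.H493.F4Tor Cfsg.Agent.H129 Cfsg.Agent.H129.SuzT

universe u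

/-! ### the group generated by the `n_i(1)` in characteristic 2 -/

section NW

variable {k : Type u} [Field k] [CharP k 2]

theorem sp_simple : ∀ i : Fin 4, TwF4.Rel.sp i = chevF4.simple i ∧ TwF4.Rel.bar (chevF4.simple i) = chevF4.simple (rv i) := by
  decide +kernel

/-- the product of the `n_i` along a word -/
noncomputable def nw (k : Type u) [Field k] (w : List (Fin 4)) : ↥(chevF4.group k) := (w.map fun i => nc hp k i).prod

theorem nw_nil : nw k [] = 1 := rfl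

theorem nw_cons (i : Fin 4) (w : List (Fin 4)) : nw k (i :: w) = nc hp k i * nw k w := by
  unfold nw
  rw [List.map_cons, List.prod_cons]

theorem nw_append (w w' : List (Fin 4)) : nw k (w ++ w') = nw k w * nw k w' := by
  unfold nw
  rw [List.map_append, List.prod_append]

theorem nc_eq_ng (i : Fin 4) : nc hp k i = ng (chevF4.simple i) 1 := Subtype.ext (coe_ng (simple_tab i).1 1).symm

theorem coe_nc (i : Fin 4) :
    ((nc hp k i : ↥(chevF4.group k)) : GL chevF4.Idx k) = TwF4.Rel.nG k (TwF4.Rel.sp i) := by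
  rw [nc_eq_ng, (sp_simple i).1]
  show TwF4.Rel.X _ 1 * (TwF4.Rel.X _ (-1⁻¹) * TwF4.Rel.X _ 1) = _
  unfold TwF4.Rel.nG
  rw [CharTwo.neg_eq, inv_one, mul_assoc]

theorem coe_nw (w : List (Fin 4)) :
    ((nw k w : ↥(chevF4.group k)) : GL chevF4.Idx k) = TwF4.RankOne.NW k (w.map Fin.val) := by
  induction w with
  | nil => rfl
  | cons i w ih => rw [nw_cons, Subgroup.coe_mul, ih, coe_nc, List.map_cons, TwF4.RankOne.NW_cons]

/-- the check for two words with the same product -/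
def weq (w w' : List (Fin 4)) : Bool :=
  TwF4.RankOne.mat1 (TwF4.RankOne.letters (w.map Fin.val)) ==
    TwF4.RankOne.mat1 (TwF4.RankOne.letters (w'.map Fin.val))

theorem nw_eq {w w' : List (Fin 4)} (h : weq w w' = true) : nw k w = nw k w' := by
  apply Subtype.ext
  rw [coe_nw, coe_nw]
  exact TwF4.RankOne.NW_eq_of_mat1 _ _ h

theorem ste_nc (m : ℕ) (i : Fin 4) : ste k m (nc hp k i) = nc hp k (rv i) := by
  rw [nc_eq_ng, nc_eq_ng, ste_ng m (simple_tab i).1, lm_one, (simple_tab i).2.1]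

theorem ste_nw (m : ℕ) (w : List (Fin 4)) : ste k m (nw k w) = nw k (w.map rv) := by
  induction w with
  | nil => rw [nw_nil, map_one]; rfl
  | cons i w ih => rw [nw_cons, map_mul, ih, ste_nc, List.map_cons, nw_cons]

theorem rp_nw {W : Type*} [Group W] (cs : CoxeterSystem CoxeterMatrix.F₄ W)
    {hN : NSys CoxeterMatrix.F₄ (TT chevF4 k) (nc hp k)} (w : List (Fin 4)) : Rp cs hN (cs.wordProd w) (nw k w) := by
  induction w with
  | nil => rw [wordProd_nil]; exact rp_one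
  | cons i w ih => rw [wordProd_cons, nw_cons]; exact (rp_simple cs hN i).mul ih

end NW

/-! ### the torus -/

section Alg

variable {k : Type u} [Field k] [IsAlgClosed k] [CharP k 2] {W : Type*} [Group W]
  (cs : CoxeterSystem CoxeterMatrix.F₄ W)

/-- **conjugate elements of the torus are conjugate under the Weyl group** -/
theorem exists_w [Finite W] (hk : LocFin k) {t t' g : ↥(chevF4.group k)} (ht : t ∈ TT chevF4 k) (ht' : t' ∈ TT chevF4 k)
    (h : g * t * g⁻¹ = t') : ∃ w : W, ∀ x, cX hp t' (rep cs hp.isCartan w x) = cX hp t x := by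
  have : Fact (Nat.Prime 2) := ⟨Nat.prime_two⟩
  have hN := nsys_of_locFin hp cs hk 2
  have H := tow hp cs hk 2
  have C := coordsL hp cs hk 2
  rw [← TL_eq hp hk, ← XL_eq hp hk] at C
  have h1 : t ∈ TL (Tj hp (k := k)) := by rw [TL_eq hp hk]; exact ht
  have h2 : t' ∈ TL (Tj hp (k := k)) := by rw [TL_eq hp hk]; exact ht'
  have hgG : g ∈ GG cs hp.isCartan (TL (Tj hp (k := k))) (XL (Xj hp)) := by
    rw [GG_eq_top hp cs hk]; exact Subgroup.mem_top _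
  have h3 : g * t = t' * g := by rw [← h]; group
  obtain ⟨m', -, w, n, hn, hnt, -⟩ := BpExc.Fr.exists_form H C h1 h2 hgG h3
  have hn' : Rp cs hN w n := by
    have key : ∀ (T : Subgroup ↥(chevF4.group k)) (h1 : NSys CoxeterMatrix.F₄ T (nc hp k)) (h2 : T = TT chevF4 k),
        Rp cs h1 w n → Rp cs hN w n := by
      intro T h1 h2 h3
      subst h2
      exact h3
    exact key _ _ (TL_eq hp hk) hn
  refine ⟨w, fun x => ?_⟩
  have h4 : n * t * n⁻¹ = t' := by rw [hnt]; group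
  rw [← cX_rp hp cs hk 2 hn' ht x, h4]

/-- the elements of the algebraic group -/
structure YD (m N : ℕ) (Lx Ly : Fin 4 → ℤ) (j : ℕ) (n z s t v : ↥(chevF4.group k)) (u : k) : Prop where
  hz : n = z⁻¹ * ste k m z
  hs : s ∈ TT chevF4 k
  ht : t ∈ TT chevF4 k
  hu : IsPrimitiveRoot u N
  hcs : ∀ x, cX hp s x = u ^ La Lx x
  hct : ∀ x, cX hp t x = u ^ La Ly x
  fs : n * ste k m s * n⁻¹ = s
  ft : n * ste k m t * n⁻¹ = t
  fv : n * ste k m v * n⁻¹ = v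
  vs : v * s * v⁻¹ = s
  vt : v * t * v⁻¹ = t ^ j

theorem exists_cX_La {N : ℕ} (hN0 : N ≠ 0) {u : k} (hu : IsPrimitiveRoot u N) (L : Fin 4 → ℤ) :
    ∃ t ∈ TT chevF4 k, ∀ x, cX hp t x = u ^ La L x := by
  have hu0 : u ≠ 0 := hu.ne_zero hN0
  have hMC : IsMC (fun x : Fin 4 → ℤ => u ^ La L x) :=
    ⟨by show u ^ La L 0 = 1; rw [La_zero, zpow_zero],
      fun x y => by show u ^ La L (x + y) = _; rw [La_add, zpow_add₀ hu0]⟩
  obtain ⟨t, ht, hcX⟩ := exists_cX hp invC_F4 one_ne_zero hMC fun i => ⟨_, pow_one _⟩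
  exact ⟨t, ht, hcX⟩

/-- the fixed elements -/
theorem fix_of [Finite W] (hk : LocFin k) {hN : NSys CoxeterMatrix.F₄ (TT chevF4 k) (nc hp k)} {w : W}
    {n : ↥(chevF4.group k)} (hn : Rp cs hN w n) {Th : Fin 4 → Fin 4 → ℤ}
    (hTh : ∀ j, rep cs hp.isCartan w (sr (rv j)) = Th j) (m : ℕ) {N : ℕ} {u : k} (hu : IsPrimitiveRoot u N)
    {L : Fin 4 → ℤ} (hL : ∀ j, (N : ℤ) ∣ ∑ i, rowM Th (2 ^ m) j i * L i) {t : ↥(chevF4.group k)}
    (ht : t ∈ TT chevF4 k) (hct : ∀ x, cX hp t x = u ^ La L x) : n * ste k m t * n⁻¹ = t := by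
  have hone : ∀ z : ℤ, u ^ z = 1 ↔ (N : ℤ) ∣ z := fun z => hu.zpow_eq_one_iff_dvd z
  rw [fix_iff cs hk hn hTh m ht]
  intro j
  have hrow : Th j = rowM Th (2 ^ m) j + ((eN j : ℤ) * 2 ^ m) • (sr j : Fin 4 → ℤ) := by
    rw [rowM_eq, sub_add_cancel]
  have h1 := isMC_cX hp ht
  conv_lhs => rw [hrow]
  rw [h1.add, h1.zsmul]
  have h2 : cX hp t (rowM Th (2 ^ m) j) = 1 := by rw [hct, hone]; exact hL j
  rw [h2, one_mul, show ((eN j : ℤ) * 2 ^ m) = ((eN j * 2 ^ m : ℕ) : ℤ) by push_cast; ring, zpow_natCast]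

/-- the conjugation of elements of the torus by representatives -/
theorem conj_of [Finite W] (hk : LocFin k) {hN : NSys CoxeterMatrix.F₄ (TT chevF4 k) (nc hp k)} {w : W}
    {n : ↥(chevF4.group k)} (hn : Rp cs hN w n) {V : Fin 4 → Fin 4 → ℤ}
    (hV : ∀ j, rep cs hp.isCartan w (sr j) = V j) {N : ℕ} {u : k} (hu : IsPrimitiveRoot u N) (hN0 : N ≠ 0)
    {L : Fin 4 → ℤ} {e : ℕ} (hL : ∀ j, (N : ℤ) ∣ e * La L (V j) - L j) {t : ↥(chevF4.group k)}
    (ht : t ∈ TT chevF4 k) (hct : ∀ x, cX hp t x = u ^ La L x) : n * t * n⁻¹ = t ^ e := by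
  have : Fact (Nat.Prime 2) := ⟨Nat.prime_two⟩
  have hu0 : u ≠ 0 := hu.ne_zero hN0
  have hone : ∀ z : ℤ, u ^ z = 1 ↔ (N : ℤ) ∣ z := fun z => hu.zpow_eq_one_iff_dvd z
  have hnt : n * t * n⁻¹ ∈ TT chevF4 k := (Subgroup.mem_normalizer_iff.1 hn.mem_normalizer _).1 ht
  have hte := pow_mem ht e
  have h1 : ∀ x, cX hp (t ^ e) (rep cs hp.isCartan w x) = cX hp t x := by
    intro x
    refine ((isMC_cX hp hte).comp (rep cs hp.isCartan w).toAddMonoidHom).ext (isMC_cX hp ht) (fun i => ?_) x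
    show cX hp (t ^ e) (rep cs hp.isCartan w (sr i)) = _
    rw [hV, cX_pow hp ht, hct, hct, La_sr, ← zpow_natCast, ← zpow_mul]
    have h2 := (hone _).2 (hL i)
    rw [zpow_sub₀ hu0, div_eq_one_iff_eq (zpow_ne_zero _ hu0)] at h2
    rw [← h2, mul_comm]
  refine cX_inj hp hnt hte fun i => ?_
  have h8 : sr i = rep cs hp.isCartan w (rep cs hp.isCartan w⁻¹ (sr i)) := by
    rw [← Module.End.mul_apply, ← map_mul, mul_inv_cancel, map_one, Module.End.one_apply]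
  rw [h8, h1, cX_rp hp cs hk 2 hn ht]

theorem exists_YD [Finite CoxeterMatrix.F₄.Group] (hk : LocFin k) {C : List (Fin 4 × WData.Mat 4)} {Am : WData.Mat 4}
    (hAm : ∀ i j, Am i j = cartanOf chevF4 4 i j) (hC : WData.ChainOK Am C) {Th : Fin 4 → Fin 4 → ℤ}
    (hTh : ∀ j, WData.hd C (rv j) = Th j) {Cv : List (Fin 4 × WData.Mat 4)} (hCv : WData.ChainOK Am Cv)
    (hw : weq (C.map Prod.fst ++ (Cv.map Prod.fst).map rv) (Cv.map Prod.fst ++ C.map Prod.fst) = true)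
    (m : ℕ) {Lx Ly : Fin 4 → ℤ} {N : ℕ} (hN2 : ¬ 2 ∣ N)
    (hLx : ∀ j, (N : ℤ) ∣ ∑ i, rowM Th (2 ^ m) j i * Lx i) (hLy : ∀ j, (N : ℤ) ∣ ∑ i, rowM Th (2 ^ m) j i * Ly i)
    {j : ℕ} (hvx : ∀ i, (N : ℤ) ∣ (1 : ℕ) * La Lx (WData.hd Cv i) - Lx i)
    (hvy : ∀ i, (N : ℤ) ∣ j * La Ly (WData.hd Cv i) - Ly i) :
    ∃ n z s t v u, YD (k := k) m N Lx Ly j n z s t v u := by
  have : Fact (Nat.Prime 2) := ⟨Nat.prime_two⟩
  have cs := CoxeterMatrix.F₄.toCoxeterSystem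
  have hN := nsys_of_locFin hp cs hk 2
  have hN0 : N ≠ 0 := by rintro rfl; exact hN2 (dvd_zero 2)
  have hNk : (N : k) ≠ 0 := by
    rw [Ne, CharP.cast_eq_zero_iff k 2]
    exact hN2
  have : NeZero (N : k) := ⟨hNk⟩
  have : NeZero N := ⟨hN0⟩
  have hn := rp_nw (k := k) cs (hN := hN) (C.map Prod.fst)
  have hv := rp_nw (k := k) cs (hN := hN) (Cv.map Prod.fst)
  set n := nw k (C.map Prod.fst) with hndef
  set v := nw k (Cv.map Prod.fst) with hvdef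
  obtain ⟨z, hz⟩ := Cfsg.Agent.H493.F4Lang.lang_ste m n
  obtain ⟨u, hu⟩ := HasEnoughRootsOfUnity.exists_primitiveRoot k N
  obtain ⟨s, hs, hcs⟩ := exists_cX_La hN0 hu Lx
  obtain ⟨t, ht, hct⟩ := exists_cX_La hN0 hu Ly
  have hTh' : ∀ j, rep cs hp.isCartan (cs.wordProd (C.map Prod.fst)) (sr (rv j)) = Th j := fun j => by
    rw [H129.WData.chain_rep hp _ hAm hC, hTh]
  have hV : ∀ j, rep cs hp.isCartan (cs.wordProd (Cv.map Prod.fst)) (sr j) = WData.hd Cv j := fun j =>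
    H129.WData.chain_rep hp _ hAm hCv j
  refine ⟨n, z, s, t, v, u, hz, hs, ht, hu, hcs, hct, fix_of cs hk hn hTh' m hu hLx hs hcs,
    fix_of cs hk hn hTh' m hu hLy ht hct, ?_, ?_, conj_of cs hk hv hV hu hN0 hvy ht hct⟩
  · rw [hvdef, ste_nw, ← hvdef]
    rw [mul_inv_eq_iff_eq_mul, hndef, hvdef, ← nw_append, ← nw_append]
    exact nw_eq hw
  · rw [conj_of cs hk hv hV hu hN0 hvx hs hcs, pow_one]

end Alg

/-! ### the finite group -/

section Fin

/-- the descent -/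
theorem YD.descent {K : Type u} [Field K] [Fintype K] [CharP K 2] {k : Type u} [Field k] [IsAlgClosed k] [CharP k 2]
    (f : K →+* k) (hk : LocFin k) {m : ℕ} (hK : Fintype.card K = 2 ^ (2 * m + 1)) [Finite CoxeterMatrix.F₄.Group]
    {Lx Ly : Fin 4 → ℤ} {N j : ℕ} {n z s t v : ↥(chevF4.group k)} {u : k} (X : YD m N Lx Ly j n z s t v u)
    (hN0 : N ≠ 0) {bx by' : Fin 4 → ℤ}
    (hbx : ∀ a : ℤ, (N : ℤ) ∣ a * La Lx bx → (N : ℤ) ∣ a) (hbx0 : La Ly bx = 0)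
    (hby : ∀ a : ℤ, (N : ℤ) ∣ a * La Ly by' → (N : ℤ) ∣ a) :
    ∃ x y c : ↥(twistedF4 K (2 ^ m)), orderOf x = N ∧ orderOf y = N ∧ Commute x y ∧
      Subgroup.zpowers x ⊓ Subgroup.zpowers y = ⊥ ∧ Commute c x ∧ c * y * c⁻¹ = y ^ j ∧
      ∀ (g : ↥(twistedF4 K (2 ^ m))) (i : ℕ), g * x * g⁻¹ = x ^ i → ∃ w : CoxeterMatrix.F₄.Group,
        ∀ a, (N : ℤ) ∣ i * La Lx (rep CoxeterMatrix.F₄.toCoxeterSystem hp.isCartan w a) - La Lx a := by
  classical
  have hone : ∀ z : ℤ, u ^ z = 1 ↔ (N : ℤ) ∣ z := fun z => X.hu.zpow_eq_one_iff_dvd z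
  have hu0 : u ≠ 0 := X.hu.ne_zero hN0
  let ι : ↥(twistedF4 K (2 ^ m)) →* ↥(chevF4.group K) := Subgroup.inclusion (twisted_le K m)
  let e0 : ↥(twistedF4 K (2 ^ m)) →* ↥(chevF4.group k) := (emb hD f).comp ι
  have he0 : Function.Injective e0 := fun x y hxy =>
    Subgroup.inclusion_injective _ (emb_injective hD f hxy)
  have hσz : ste k m z = z * n := by rw [X.hz]; group
  have hdesc : ∀ r, n * ste k m r * n⁻¹ = r → ∃ x, e0 x = z * r * z⁻¹ := by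
    intro r hr
    have hσa : ste k m (z * r * z⁻¹) = z * r * z⁻¹ := by
      rw [map_mul, map_mul, map_inv, hσz]
      calc z * n * ste k m r * (z * n)⁻¹ = z * (n * ste k m r * n⁻¹) * z⁻¹ := by group
        _ = z * r * z⁻¹ := by rw [hr]
    obtain ⟨g, hg, hgm⟩ := exists_fin f hK hσa
    exact ⟨⟨g, hgm⟩, hg⟩
  obtain ⟨x, hx⟩ := hdesc s X.fs
  obtain ⟨y, hy⟩ := hdesc t X.ft
  obtain ⟨c, hc⟩ := hdesc v X.fv
  have hxi : ∀ i : ℤ, e0 (x ^ i) = z * s ^ i * z⁻¹ := fun i => by rw [map_zpow, hx, conj_zpow]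
  have hyi : ∀ i : ℤ, e0 (y ^ i) = z * t ^ i * z⁻¹ := fun i => by rw [map_zpow, hy, conj_zpow]
  have hcan : ∀ {a b : ↥(chevF4.group k)}, z * a * z⁻¹ = z * b * z⁻¹ → a = b := fun h =>
    mul_left_cancel (mul_right_cancel h)
  have hpz : ∀ {r : ↥(chevF4.group k)} {L : Fin 4 → ℤ}, r ∈ TT chevF4 k → (∀ x, cX hp r x = u ^ La L x) → ∀ (i : ℤ) b,
      cX hp (r ^ i) b = u ^ (i * La L b) := by
    intro r L hr hc i b
    obtain ⟨i, rfl | rfl⟩ := Int.eq_nat_or_neg i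
    · rw [zpow_natCast, cX_pow hp hr, hc, ← zpow_natCast, ← zpow_mul, mul_comm]
    · have h1 := cX_mul hp (zpow_mem hr (-(i : ℤ))) (pow_mem hr i) b
      rw [← zpow_natCast, ← zpow_add, neg_add_cancel, zpow_zero, cX_one] at h1
      have h2 := eq_inv_of_mul_eq_one_left h1.symm
      rw [h2, zpow_natCast, cX_pow hp hr, hc, ← zpow_natCast, ← zpow_mul, ← zpow_neg]
      congr 1
      ring
  have hsN : s ^ N = 1 := by
    refine cX_inj hp (pow_mem X.hs N) (one_mem _) fun i => ?_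
    rw [cX_pow hp X.hs, cX_one, X.hcs, ← zpow_natCast, ← zpow_mul, hone]
    exact dvd_mul_left _ _
  have htN : t ^ N = 1 := by
    refine cX_inj hp (pow_mem X.ht N) (one_mem _) fun i => ?_
    rw [cX_pow hp X.ht, cX_one, X.hct, ← zpow_natCast, ← zpow_mul, hone]
    exact dvd_mul_left _ _
  have hxN : x ^ N = 1 := by
    apply he0
    rw [← zpow_natCast, hxi, zpow_natCast, hsN, map_one]
    group
  have hyN : y ^ N = 1 := by
    apply he0
    rw [← zpow_natCast, hyi, zpow_natCast, htN, map_one]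
    group
  refine ⟨x, y, c, ?_, ?_, ?_, ?_, ?_, ?_, ?_⟩
  · refine Nat.dvd_antisymm (orderOf_dvd_of_pow_eq_one hxN) ?_
    have h1 : e0 (x ^ (orderOf x : ℤ)) = 1 := by rw [zpow_natCast, pow_orderOf_eq_one, map_one]
    rw [hxi] at h1
    have h2 : s ^ (orderOf x : ℤ) = 1 := hcan (h1.trans (by group))
    have h3 := hpz X.hs X.hcs (orderOf x) bx
    rw [h2, cX_one] at h3
    exact_mod_cast hbx _ ((hone _).1 h3.symm)
  · refine Nat.dvd_antisymm (orderOf_dvd_of_pow_eq_one hyN) ?_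
    have h1 : e0 (y ^ (orderOf y : ℤ)) = 1 := by rw [zpow_natCast, pow_orderOf_eq_one, map_one]
    rw [hyi] at h1
    have h2 : t ^ (orderOf y : ℤ) = 1 := hcan (h1.trans (by group))
    have h3 := hpz X.ht X.hct (orderOf y) by'
    rw [h2, cX_one] at h3
    exact_mod_cast hby _ ((hone _).1 h3.symm)
  · apply he0
    rw [map_mul, map_mul, hx, hy]
    have h1 : s * t = t * s := TT_comm hp (K := k) s X.hs t X.ht
    calc z * s * z⁻¹ * (z * t * z⁻¹) = z * (s * t) * z⁻¹ := by group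
      _ = z * (t * s) * z⁻¹ := by rw [h1]
      _ = _ := by group
  · rw [eq_bot_iff]
    rintro g ⟨⟨i, hi⟩, ⟨i', hi'⟩⟩
    have hi : x ^ i = g := hi
    have hi' : y ^ i' = g := hi'
    have h1 : z * s ^ i * z⁻¹ = z * t ^ i' * z⁻¹ := by rw [← hxi, ← hyi, hi, hi']
    have h2 := hcan h1
    have h3 := hpz X.hs X.hcs i bx
    rw [h2, hpz X.ht X.hct i' bx, hbx0, mul_zero, zpow_zero] at h3
    obtain ⟨a, ha⟩ := hbx _ ((hone _).1 h3.symm)
    rw [Subgroup.mem_bot, ← hi, ha, zpow_mul, zpow_natCast, hxN, one_zpow]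
  · apply he0
    rw [map_mul, map_mul, hx, hc]
    have h1 : v * s = s * v := by
      conv_rhs => rw [← X.vs]
      group
    calc z * v * z⁻¹ * (z * s * z⁻¹) = z * (v * s) * z⁻¹ := by group
      _ = z * (s * v) * z⁻¹ := by rw [h1]
      _ = _ := by group
  · apply he0
    rw [map_mul, map_mul, map_inv, hc, hy, ← zpow_natCast, hyi, zpow_natCast, ← X.vt]
    group
  · intro g i hg
    have h1 : e0 g * (z * s * z⁻¹) * (e0 g)⁻¹ = z * s ^ i * z⁻¹ := by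
      rw [← hx, ← map_mul, ← map_inv, ← map_mul, hg, ← zpow_natCast, hxi, zpow_natCast]
    obtain ⟨w, hw'⟩ := exists_w CoxeterMatrix.F₄.toCoxeterSystem hk (t := s) (t' := s ^ i) (g := z⁻¹ * e0 g * z) X.hs
      (pow_mem X.hs i) (by
        calc z⁻¹ * e0 g * z * s * (z⁻¹ * e0 g * z)⁻¹ = z⁻¹ * (e0 g * (z * s * z⁻¹) * (e0 g)⁻¹) * z := by group
          _ = s ^ i := by rw [h1]; group)
    refine ⟨w, fun a => ?_⟩
    have h2 := hw' a
    rw [← zpow_natCast, hpz X.hs X.hcs, X.hcs] at h2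
    rw [← hone, zpow_sub₀ hu0, h2, div_self (zpow_ne_zero _ hu0)]


/-- **The elements of `²F₄(q)`.** -/
theorem exists_xyc {K : Type u} [Field K] [Fintype K] {m : ℕ} (hK : Fintype.card K = 2 ^ (2 * m + 1))
    {C : List (Fin 4 × WData.Mat 4)} {Am : WData.Mat 4}
    (hAm : ∀ i j, Am i j = cartanOf chevF4 4 i j) (hC : WData.ChainOK Am C) {Th : Fin 4 → Fin 4 → ℤ}
    (hTh : ∀ j, WData.hd C (rv j) = Th j) {Cv : List (Fin 4 × WData.Mat 4)} (hCv : WData.ChainOK Am Cv)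
    (hw : weq (C.map Prod.fst ++ (Cv.map Prod.fst).map rv) (Cv.map Prod.fst ++ C.map Prod.fst) = true)
    {Lx Ly : Fin 4 → ℤ} {N : ℕ} (hN2 : ¬ 2 ∣ N)
    (hLx : ∀ j, (N : ℤ) ∣ ∑ i, rowM Th (2 ^ m) j i * Lx i) (hLy : ∀ j, (N : ℤ) ∣ ∑ i, rowM Th (2 ^ m) j i * Ly i)
    {j : ℕ} (hvx : ∀ i, (N : ℤ) ∣ (1 : ℕ) * La Lx (WData.hd Cv i) - Lx i)
    (hvy : ∀ i, (N : ℤ) ∣ j * La Ly (WData.hd Cv i) - Ly i) {bx by' : Fin 4 → ℤ}
    (hbx : ∀ a : ℤ, (N : ℤ) ∣ a * La Lx bx → (N : ℤ) ∣ a) (hbx0 : La Ly bx = 0)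
    (hby : ∀ a : ℤ, (N : ℤ) ∣ a * La Ly by' → (N : ℤ) ∣ a) :
    ∃ x y c : ↥(twistedF4 K (2 ^ m)), orderOf x = N ∧ orderOf y = N ∧ Commute x y ∧
      Subgroup.zpowers x ⊓ Subgroup.zpowers y = ⊥ ∧ Commute c x ∧ c * y * c⁻¹ = y ^ j ∧
      ∀ (g : ↥(twistedF4 K (2 ^ m))) (i : ℕ), g * x * g⁻¹ = x ^ i → ∃ w : CoxeterMatrix.F₄.Group,
        ∀ a, (N : ℤ) ∣ i * La Lx (rep CoxeterMatrix.F₄.toCoxeterSystem hp.isCartan w a) - La Lx a := by
  have hWf : Finite CoxeterMatrix.F₄.Group := Nat.finite_of_card_ne_zero (by rw [CycT.cardW_F4]; norm_num)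
  have : Fact (Nat.Prime 2) := ⟨Nat.prime_two⟩
  have hc2 : CharP K 2 := F4Fixed.charP_two hK
  obtain ⟨p, e, hpF, hpc, hpk, he, hpe, hk⟩ := exists_closure hK
  have hp2 : p = 2 := CharP.eq K hpc hc2
  subst hp2
  have hN0 : N ≠ 0 := by rintro rfl; exact hN2 (dvd_zero 2)
  obtain ⟨n, z, s, t, v, u, X⟩ := exists_YD hk hAm hC hTh hCv hw m hN2 hLx hLy hvx hvy
  exact X.descent (algebraMap K (AlgebraicClosure K)) hk hK hN0 hbx hbx0 hby

end Fin

end Cfsg.Agent.H97.KB.TwFTor
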